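import Mathlib
import Groth.Agent.Lib.Helper5.Segre.D

/-! # Very ample modules, part A: general lemmas on immersions. -/

set_option autoImplicit false
universe u
open CategoryTheory CategoryTheory.Limits AlgebraicGeometry Opposite TopologicalSpace

namespace Groth.Agent.H5.VAmple

/-- a morphism which is a closed immersion over each member of a family of opens covering its
image is an immersion. -/
theorem isImmersion_of_cover {X Y : Scheme.{u}} (f : X ⟶ Y) {ι : Type*} (W : ι → Y.Opens)
    (hcov : ∀ x : X, ∃ a, f x ∈ W a) (h : ∀ a, IsClosedImmersion (f ∣_ W a)) : IsImmersion f := by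
  haveI : MorphismProperty.RespectsRight (@IsImmersion) (@IsOpenImmersion) :=
    ⟨fun i hi f hf => by haveI := hi; haveI := hf; infer_instance⟩
  apply IsZariskiLocalAtTarget.of_range_subset_iSup (P := @IsImmersion) W
  · rintro _ ⟨x, rfl⟩
    obtain ⟨a, ha⟩ := hcov x
    exact Opens.mem_iSup.mpr ⟨a, ha⟩
  · intro a
    haveI := h a
    infer_instance

/-- closed immersion over an affine open from surjectivity on sections. -/
theorem isClosedImmersion_morphismRestrict {X Y : Scheme.{u}} (f : X ⟶ Y) {W : Y.Opens}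
    (hW : IsAffineOpen W) {U : X.Opens} (hU : IsAffineOpen U) (hUW : f ⁻¹ᵁ W = U)
    (e : U ≤ f ⁻¹ᵁ W) (hsurj : Function.Surjective (f.appLE W U e).hom) :
    IsClosedImmersion (f ∣_ W) := by
  subst hUW
  haveI : IsAffine (W : Scheme.{u}) := hW
  haveI : IsAffine ((f ⁻¹ᵁ W : X.Opens) : Scheme.{u}) := hU
  apply IsClosedImmersion.of_surjective_of_isAffine
  exact Groth.Agent.H5.Segre.surjective_morphismRestrict_appTop f W hsurj

/-- in a pullback square, the intersection of preimages of affine opens (over an affine open of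
the base) is affine. -/
theorem isAffineOpen_inf_of_isPullback {P X Y S : Scheme.{u}} {fst : P ⟶ X} {snd : P ⟶ Y}
    {f : X ⟶ S} {g : Y ⟶ S} (h : IsPullback fst snd f g) {UX : X.Opens} {UY : Y.Opens}
    {US : S.Opens} (hUX : IsAffineOpen UX) (hUY : IsAffineOpen UY) (hUS : IsAffineOpen US)
    (hX : UX ≤ f ⁻¹ᵁ US) (hY : UY ≤ g ⁻¹ᵁ US) :
    IsAffineOpen (fst ⁻¹ᵁ UX ⊓ snd ⁻¹ᵁ UY) := by
  haveI : IsAffine (US : Scheme.{u}) := hUS
  haveI : IsAffine (UX : Scheme.{u}) := hUX
  haveI : IsAffine (UY : Scheme.{u}) := hUY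
  exact .of_isIso (Scheme.Hom.isPullback_resLE h (US := US) (UT := UY) (UX := UX) hY hX
    rfl).isoPullback.hom

end Groth.Agent.H5.VAmple
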