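import Mathlib
import Groth.Agent.Lib.Helper2.ProjUPK
import Groth.Agent.Lib.Helper5.Segre.D
import Groth.Agent.Lib.Helper5.VAmple.A

/-! # Very ample modules, part B: the morphism to `P^n_S` defined by generating sections. -/

set_option autoImplicit false
universe u
open CategoryTheory CategoryTheory.Limits AlgebraicGeometry HomogeneousLocalization Opposite
  TopologicalSpace

namespace Groth.Agent.H5.VAmple

open Groth.Agent.LD Twist Groth.Agent.H2.PUP Groth.Agent.H5.Segre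

section General
variable {A : Type u} [CommRing A] {S : Type u} [CommRing S] [Algebra A S]
  (𝒮 : ℕ → Submodule A S) [GradedAlgebra 𝒮]
  {M : Type u} [AddCommGroup M] [Module A M] (ι : M →ₗ[A] S)
  (hι : ∀ m, ι m ∈ 𝒮 1) (hsym : IsSymmetricAlgebra ι)
variable {X : Scheme.{u}} (q : X ⟶ Spec (CommRingCat.of A)) (L : X.Modules)
  (v : M →+ ProjUP.Γm L)
  (hv : ∀ (a : A) (m : M), v (a • m) = ProjUP.toGlobal q a • v m)
  (hL : PicF.IsInvertible L) (hgen : ProjUP.GeneratedBy L v)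

/-- the pullback of `O(1)` along the glued morphism is `L`, compatibly with the sections. -/
theorem exists_iso_rGlue :
    ∃ τ : (Scheme.Modules.pullback (rGlue 𝒮 ι hι hsym q L v hv hL hgen)).obj (twist 𝒮 1) ≅ L,
      ∀ m : M, τ.hom.app ⊤ (ProjUP.pullSec (rGlue 𝒮 ι hι hsym q L v hv hL hgen) (twist 𝒮 1)
        (sec1 𝒮 (hι m))) = v m := by
  refine Groth.Agent.H2.ModGlue.exists_iso_of_bases (Xm L v) (iSup_Xm L v hL hgen) _ L
    (fun m => ProjUP.pullSec (rGlue 𝒮 ι hι hsym q L v hv hL hgen) (twist 𝒮 1) (sec1 𝒮 (hι m)))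
    (fun m => v m) ?_ ?_ (coord L v) ?_ ?_
  · intro m
    exact isBasisOver_res_pullSec_sec1 𝒮 ι hι hsym _ (hι m)
      (Xm_le_preimage 𝒮 ι hι hsym q L v hv hL hgen m)
  · intro m
    exact isBasisOver_eB L v m
  · intro m m'
    have h := res_pullSec_sec1_eq_smul 𝒮 (rGlue 𝒮 ι hι hsym q L v hv hL hgen) (hι m) (hι m')
      (Xm_le_preimage 𝒮 ι hι hsym q L v hv hL hgen m)
    rw [h]
    congr 1
    exact chartHom_rGlue 𝒮 ι hι hsym q L v hv hL hgen m m'
  · intro m m'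
    exact coord_spec L v m m'

/-- the preimage of the chart `D₊(ι m)` under the glued morphism is exactly `Xm m`. -/
theorem rGlue_preimage (m : M) :
    rGlue 𝒮 ι hι hsym q L v hv hL hgen ⁻¹ᵁ Proj.basicOpen 𝒮 (ι m) = Xm L v m := by
  apply le_antisymm _ (Xm_le_preimage 𝒮 ι hι hsym q L v hv hL hgen m)
  obtain ⟨τ, hτ⟩ := exists_iso_rGlue 𝒮 ι hι hsym q L v hv hL hgen
  have hbij : ∀ W : X.Opens, Function.Bijective (τ.hom.app W) :=
    fun W => QC.app_bijective_of_isIso τ.hom W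
  have h1 := (isBasisOver_res_pullSec_sec1 𝒮 ι hι hsym (rGlue 𝒮 ι hι hsym q L v hv hL hgen)
    (hι m) le_rfl).map_of_bijective τ.hom (fun W _ => hbij W)
  rw [QC.app_res, hτ] at h1
  rw [Xm, QC.le_genLocus_iff_isBasisOver, QC.val_homOfSection]
  exact h1

end General

section Pn
variable {X S : Scheme.{u}} (q : X ⟶ S) (L : X.Modules) (hL : PicF.IsInvertible L) {n : ℕ}
  (s : Fin (n + 1) → ProjUP.Γm L) (hs : ProjUP.GeneratedBy L s)

/-- the structure morphism to `Spec ℤ`. -/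
noncomputable abbrev q0 (X : Scheme.{u}) : X ⟶ Spec (CommRingCat.of (ULift.{u} ℤ)) :=
  specULiftZIsTerminal.from X

/-- the additive map `ℤ^{n+1} → Γ(X, L)`. -/
noncomputable abbrev vZ : (Fin (n + 1) → ULift.{u} ℤ) →+ ProjUP.Γm L :=
  vOfFamily n (q0 X) L s

/-- the open `X_{s_k}`. -/
noncomputable def Xs (k : Fin (n + 1)) : X.Opens := Xm L (vZ L s) (ei n (ULift.{u} ℤ) k)

lemma Xs_eq (k : Fin (n + 1)) : Xs L s k = CohB1.genLocus L (QC.homOfSection L (s k)) := by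
  rw [Xs, Xm, vOfFamily_single]

/-- the ratio `s_l / s_k` on `X_{s_k}`. -/
noncomputable def cc (k l : Fin (n + 1)) : Γ(X, Xs L s k) :=
  coord L (vZ L s) (ei n (ULift.{u} ℤ) k) (ei n (ULift.{u} ℤ) l)

lemma cc_spec (k l : Fin (n + 1)) :
    L.presheaf.map (homOfLE (le_top : Xs L s k ≤ ⊤)).op (s l) =
      cc L s k l • L.presheaf.map (homOfLE (le_top : Xs L s k ≤ ⊤)).op (s k) := by
  have h := coord_spec L (vZ L s) (ei n (ULift.{u} ℤ) k) (ei n (ULift.{u} ℤ) l)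
  rw [eB, vOfFamily_single, vOfFamily_single] at h
  exact h

lemma isBasisOver_Xs (k : Fin (n + 1)) {U : X.Opens} (hU : U ≤ Xs L s k) :
    QC.IsBasisOver L U (L.presheaf.map (homOfLE (le_top : U ≤ ⊤)).op (s k)) := by
  have h := (isBasisOver_eB L (vZ L s) (ei n (ULift.{u} ℤ) k)).mono hU
  rw [eB, QC.res_res, vOfFamily_single] at h
  exact h

/-- characterization of the restriction of the ratio. -/
lemma cc_res_eq (k l : Fin (n + 1)) {U : X.Opens} (hU : U ≤ Xs L s k) (b : Γ(X, U))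
    (hb : L.presheaf.map (homOfLE (le_top : U ≤ ⊤)).op (s l) =
      b • L.presheaf.map (homOfLE (le_top : U ≤ ⊤)).op (s k)) :
    X.presheaf.map (homOfLE hU).op (cc L s k l) = b := by
  apply (isBasisOver_Xs L s k hU).coord_injective
  rw [← hb]
  have h := congrArg (L.presheaf.map (homOfLE hU).op) (cc_spec L s k l)
  rw [QC.res_res, QC.smul_res, QC.res_res] at h
  exact h.symm

include hL hs in
lemma exists_mem_Xs (x : X) : ∃ k, x ∈ Xs L s k := by
  obtain ⟨k, hk⟩ := exists_mem_genLocus L hL s hs x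
  exact ⟨k, by rw [Xs_eq]; exact hk⟩

/-- the morphism to `P^n_ℤ`. -/
noncomputable def toPnZ : X ⟶ Proj (CohB1.polyGrading n (ULift.{u} ℤ)) :=
  rGlue (CohB1.polyGrading n (ULift.{u} ℤ)) (ιPn n _) (ιPn_mem n _) (isSymmetricAlgebra_ιPn n _)
    (q0 X) L (vZ L s) (vOfFamily_smul n (q0 X) L s) hL (generatedBy_vOfFamily n (q0 X) L s hs)

lemma toPnZ_preimage (k : Fin (n + 1)) :
    toPnZ L hL s hs ⁻¹ᵁ Dp n (ULift.{u} ℤ) k = Xs L s k :=
  rGlue_preimage _ _ _ _ _ _ _ _ _ _ _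

lemma chartHom_toPnZ (k l : Fin (n + 1)) {U : X.Opens} (hU : U ≤ Xs L s k) :
    chartHom (CohB1.polyGrading n (ULift.{u} ℤ)) (toPnZ L hL s hs) (xi n (ULift.{u} ℤ) k)
        (hU.trans (toPnZ_preimage L hL s hs k).ge)
        (frac1 (CohB1.polyGrading n (ULift.{u} ℤ)) (ιPn n _) (ιPn_mem n _)
          (xi_mem n (ULift.{u} ℤ) k) (ei n (ULift.{u} ℤ) l)) =
      X.presheaf.map (homOfLE hU).op (cc L s k l) := by
  have h1 := chartHom_rGlue (CohB1.polyGrading n (ULift.{u} ℤ)) (ιPn n _) (ιPn_mem n _)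
    (isSymmetricAlgebra_ιPn n _) (q0 X) L (vZ L s) (vOfFamily_smul n (q0 X) L s) hL
    (generatedBy_vOfFamily n (q0 X) L s hs) (ei n (ULift.{u} ℤ) k) (ei n (ULift.{u} ℤ) l)
  have h2 := chartHom_res (CohB1.polyGrading n (ULift.{u} ℤ)) (toPnZ L hL s hs)
    (xi n (ULift.{u} ℤ) k) (toPnZ_preimage L hL s hs k).ge hU
    (frac1 (CohB1.polyGrading n (ULift.{u} ℤ)) (ιPn n _) (ιPn_mem n _)
      (xi_mem n (ULift.{u} ℤ) k) (ei n (ULift.{u} ℤ) l))
  refine h2.symm.trans ?_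
  exact congrArg _ h1

lemma exists_iso_toPnZ :
    ∃ τ : (Scheme.Modules.pullback (toPnZ L hL s hs)).obj
        (twist (CohB1.polyGrading n (ULift.{u} ℤ)) 1) ≅ L,
      ∀ k, τ.hom.app ⊤ (ProjUP.pullSec (toPnZ L hL s hs) _
        (sec1 (CohB1.polyGrading n (ULift.{u} ℤ)) (xi_mem n (ULift.{u} ℤ) k))) = s k := by
  obtain ⟨τ, hτ⟩ := exists_iso_rGlue (CohB1.polyGrading n (ULift.{u} ℤ)) (ιPn n _) (ιPn_mem n _)
    (isSymmetricAlgebra_ιPn n _) (q0 X) L (vZ L s) (vOfFamily_smul n (q0 X) L s) hL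
    (generatedBy_vOfFamily n (q0 X) L s hs)
  refine ⟨τ, fun k => ?_⟩
  exact (hτ (ei n (ULift.{u} ℤ) k)).trans (vOfFamily_single n (q0 X) L s k)

/-- **the morphism to `P^n_S`** defined by the generating sections `s`. -/
noncomputable def toPn : X ⟶ CohB1.ProjSpaceOver n S :=
  pullback.lift (f := CohB1.ProjSpace.toSpec n (ULift.{u} ℤ)) (g := specULiftZIsTerminal.from S)
    (toPnZ L hL s hs) q (specULiftZIsTerminal.hom_ext _ _)

lemma toPn_fst : toPn q L hL s hs ≫ pullback.fst (CohB1.ProjSpace.toSpec n (ULift.{u} ℤ))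
    (specULiftZIsTerminal.from S) = toPnZ L hL s hs :=
  pullback.lift_fst _ _ _

lemma toPn_snd : toPn q L hL s hs ≫ pullback.snd (CohB1.ProjSpace.toSpec n (ULift.{u} ℤ))
    (specULiftZIsTerminal.from S) = q :=
  pullback.lift_snd _ _ _

lemma toPn_toBase : toPn q L hL s hs ≫ CohB1.ProjSpaceOver.toBase n S = q :=
  pullback.lift_snd _ _ _

/-- the pullback of `O(1)` along `toPn` is `L`. -/
theorem nonempty_iso_toPn :
    Nonempty (L ≅ (Scheme.Modules.pullback (toPn q L hL s hs)).obj (Twist.twistOver n S 1)) := by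
  obtain ⟨τ, -⟩ := exists_iso_toPnZ L hL s hs
  refine ⟨τ.symm ≪≫ ?_⟩
  refine (Scheme.Modules.pullbackCongr (toPn_fst q L hL s hs).symm).app _ ≪≫ ?_
  exact ((Scheme.Modules.pullbackComp (toPn q L hL s hs)
    (pullback.fst (CohB1.ProjSpace.toSpec n (ULift.{u} ℤ)) (specULiftZIsTerminal.from S))).app
      (Twist.twistProjSpace n (ULift.{u} ℤ) 1)).symm

end Pn

end Groth.Agent.H5.VAmple
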