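import Mathlib
import Groth.Agent.Lib.Helper5.VAmple.B

/-! # Very ample modules, part C: the immersion criterion. -/

set_option autoImplicit false
universe u
open CategoryTheory CategoryTheory.Limits AlgebraicGeometry HomogeneousLocalization Opposite
  TopologicalSpace

namespace Groth.Agent.H5.VAmple

open Groth.Agent.LD Twist Groth.Agent.H2.PUP Groth.Agent.H5.Segre

lemma appLE_congr_hom {X Y : Scheme.{u}} {f g : X ⟶ Y} (h : f = g) {U : Y.Opens} {V : X.Opens}
    (e : V ≤ f ⁻¹ᵁ U) (e' : V ≤ g ⁻¹ᵁ U) : f.appLE U V e = g.appLE U V e' := by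
  subst h; rfl

lemma preimage_congr_hom {X Y : Scheme.{u}} {f g : X ⟶ Y} (h : f = g) (U : Y.Opens) :
    f ⁻¹ᵁ U = g ⁻¹ᵁ U := by
  subst h; rfl

section Pn
variable {X S : Scheme.{u}} (q : X ⟶ S) (L : X.Modules) (hL : PicF.IsInvertible L) {n : ℕ}
  (s : Fin (n + 1) → ProjUP.Γm L) (hs : ProjUP.GeneratedBy L s)

/-- **immersion criterion**: the morphism `X ⟶ P^n_S` defined by generating sections is an
immersion as soon as, locally, `X_{s_k} ∩ q⁻¹ V` is affine with coordinate ring generated by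
`Γ(V)` and the ratios `s_l / s_k`. -/
theorem isImmersion_toPn
    (h : ∀ x : X, ∃ (k : Fin (n + 1)) (V : S.Opens) (U : X.Opens) (hUk : U ≤ Xs L s k)
      (hUV : U ≤ q ⁻¹ᵁ V), IsAffineOpen V ∧ IsAffineOpen U ∧ x ∈ U ∧ Xs L s k ⊓ q ⁻¹ᵁ V ≤ U ∧
      Subring.closure (Set.range (q.appLE V U hUV).hom ∪
        Set.range (fun l => X.presheaf.map (homOfLE hUk).op (cc L s k l))) = ⊤) :
    IsImmersion (toPn q L hL s hs) := by
  choose k V U hUk hUV hV hU hxU hle hcl using h
  let W : X → (CohB1.ProjSpaceOver n S).Opens := fun x =>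
    pullback.fst (CohB1.ProjSpace.toSpec n (ULift.{u} ℤ)) (specULiftZIsTerminal.from S) ⁻¹ᵁ
        Dp n (ULift.{u} ℤ) (k x) ⊓
      pullback.snd (CohB1.ProjSpace.toSpec n (ULift.{u} ℤ)) (specULiftZIsTerminal.from S) ⁻¹ᵁ V x
  have hpre : ∀ x, toPn q L hL s hs ⁻¹ᵁ W x = U x := by
    intro x
    have h1 : toPn q L hL s hs ⁻¹ᵁ W x =
        (toPn q L hL s hs ≫ pullback.fst (CohB1.ProjSpace.toSpec n (ULift.{u} ℤ))
          (specULiftZIsTerminal.from S)) ⁻¹ᵁ Dp n (ULift.{u} ℤ) (k x) ⊓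
        (toPn q L hL s hs ≫ pullback.snd (CohB1.ProjSpace.toSpec n (ULift.{u} ℤ))
          (specULiftZIsTerminal.from S)) ⁻¹ᵁ V x := rfl
    have h2 : (toPn q L hL s hs ≫ pullback.fst (CohB1.ProjSpace.toSpec n (ULift.{u} ℤ))
          (specULiftZIsTerminal.from S)) ⁻¹ᵁ Dp n (ULift.{u} ℤ) (k x) = Xs L s (k x) :=
      (preimage_congr_hom (toPn_fst q L hL s hs) _).trans (toPnZ_preimage L hL s hs (k x))
    have h3 : (toPn q L hL s hs ≫ pullback.snd (CohB1.ProjSpace.toSpec n (ULift.{u} ℤ))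
          (specULiftZIsTerminal.from S)) ⁻¹ᵁ V x = q ⁻¹ᵁ V x :=
      preimage_congr_hom (toPn_snd q L hL s hs) _
    rw [h1, h2, h3]
    exact le_antisymm (hle x) (le_inf (hUk x) (hUV x))
  apply isImmersion_of_cover (toPn q L hL s hs) W
  · intro x
    refine ⟨x, ?_⟩
    have : x ∈ toPn q L hL s hs ⁻¹ᵁ W x := by rw [hpre]; exact hxU x
    exact this
  · intro x
    have hWaff : IsAffineOpen (W x) :=
      isAffineOpen_inf_of_isPullback (IsPullback.of_hasPullback _ _)
        (isAffineOpen_Dp n (ULift.{u} ℤ) (k x)) (hV x) (isAffineOpen_top _) le_top le_top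
    refine isClosedImmersion_morphismRestrict (toPn q L hL s hs) hWaff (hU x) (hpre x)
      (hpre x).ge ?_
    rw [← RingHom.range_eq_top, eq_top_iff, ← hcl x, Subring.closure_le]
    rintro b (⟨a, rfl⟩ | ⟨l, rfl⟩)
    · refine ⟨(pullback.snd (CohB1.ProjSpace.toSpec n (ULift.{u} ℤ))
        (specULiftZIsTerminal.from S)).appLE (V x) (W x) inf_le_right a, ?_⟩
      have h1 := Scheme.Hom.appLE_comp_appLE (toPn q L hL s hs)
        (pullback.snd (CohB1.ProjSpace.toSpec n (ULift.{u} ℤ)) (specULiftZIsTerminal.from S))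
        (V x) (W x) (U x) inf_le_right (hpre x).ge
      have h2 := appLE_congr_hom (toPn_snd q L hL s hs) (U := V x) (V := U x)
        ((hpre x).ge.trans ((Opens.map (toPn q L hL s hs).base).monotone inf_le_right))
        (hUV x)
      exact (congr($h1 a)).trans (congr($h2 a))
    · refine ⟨(pullback.fst (CohB1.ProjSpace.toSpec n (ULift.{u} ℤ))
        (specULiftZIsTerminal.from S)).appLE (Dp n (ULift.{u} ℤ) (k x)) (W x) inf_le_left
          (Proj.awayToSection (CohB1.polyGrading n (ULift.{u} ℤ)) (xi n (ULift.{u} ℤ) (k x))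
            (frac1 (CohB1.polyGrading n (ULift.{u} ℤ)) (ιPn n _) (ιPn_mem n _)
              (xi_mem n (ULift.{u} ℤ) (k x)) (ei n (ULift.{u} ℤ) l))), ?_⟩
      have h1 := Scheme.Hom.appLE_comp_appLE (toPn q L hL s hs)
        (pullback.fst (CohB1.ProjSpace.toSpec n (ULift.{u} ℤ)) (specULiftZIsTerminal.from S))
        (Dp n (ULift.{u} ℤ) (k x)) (W x) (U x) inf_le_left (hpre x).ge
      have h2 := appLE_congr_hom (toPn_fst q L hL s hs) (U := Dp n (ULift.{u} ℤ) (k x))
        (V := U x)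
        ((hpre x).ge.trans ((Opens.map (toPn q L hL s hs).base).monotone inf_le_left))
        ((hUk x).trans (toPnZ_preimage L hL s hs (k x)).ge)
      have h3 := chartHom_toPnZ L hL s hs (k x) l (hUk x)
      rw [chartHom_apply] at h3
      exact (congr($h1 _)).trans ((congr($h2 _)).trans h3)

include hL hs in
/-- the resulting very ampleness statement. -/
theorem isRelVeryAmplePn_of_sections
    (h : ∀ x : X, ∃ (k : Fin (n + 1)) (V : S.Opens) (U : X.Opens) (hUk : U ≤ Xs L s k)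
      (hUV : U ≤ q ⁻¹ᵁ V), IsAffineOpen V ∧ IsAffineOpen U ∧ x ∈ U ∧ Xs L s k ⊓ q ⁻¹ᵁ V ≤ U ∧
      Subring.closure (Set.range (q.appLE V U hUV).hom ∪
        Set.range (fun l => X.presheaf.map (homOfLE hUk).op (cc L s k l))) = ⊤) :
    RelAmple.IsRelVeryAmplePn q L :=
  ⟨n, toPn q L hL s hs, isImmersion_toPn q L hL s hs h, toPn_snd q L hL s hs,
    nonempty_iso_toPn q L hL s hs⟩

end Pn

end Groth.Agent.H5.VAmple
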