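import Mathlib
import Groth.Agent.Lib.Helper5.VAmple.C

/-! # Very ample modules, part D: a convenient form of the criterion. -/

set_option autoImplicit false
universe u
open CategoryTheory CategoryTheory.Limits AlgebraicGeometry HomogeneousLocalization Opposite
  TopologicalSpace

namespace Groth.Agent.H5.VAmple

open Groth.Agent.LD Twist Groth.Agent.H2.PUP Groth.Agent.H5.Segre

variable {X S : Scheme.{u}}

/-- very ampleness is invariant under isomorphism. -/
theorem isRelVeryAmplePn_of_iso (q : X ⟶ S) {L L' : X.Modules} (e : L ≅ L')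
    (h : RelAmple.IsRelVeryAmplePn q L) : RelAmple.IsRelVeryAmplePn q L' := by
  obtain ⟨n, i, hi, hq, ⟨τ⟩⟩ := h
  exact ⟨n, i, hi, hq, ⟨e.symm ≪≫ τ⟩⟩

/-- **very ampleness criterion** for a finite family of global sections. -/
theorem isRelVeryAmplePn_of_family (q : X ⟶ S) (L : X.Modules) (hL : PicF.IsInvertible L)
    {J : Type} [Fintype J] [Nonempty J] (σ : J → ProjUP.Γm L)
    (h : ∀ x : X, ∃ (k : J) (V : S.Opens) (U : X.Opens) (hUV : U ≤ q ⁻¹ᵁ V),
      IsAffineOpen V ∧ IsAffineOpen U ∧ x ∈ U ∧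
      QC.IsBasisOver L U (L.presheaf.map (homOfLE (le_top : U ≤ ⊤)).op (σ k)) ∧
      CohB1.genLocus L (QC.homOfSection L (σ k)) ⊓ q ⁻¹ᵁ V ≤ U ∧
      ∃ T : Set Γ(X, U),
        (∀ b ∈ T, ∃ l : J, L.presheaf.map (homOfLE (le_top : U ≤ ⊤)).op (σ l) =
          b • L.presheaf.map (homOfLE (le_top : U ≤ ⊤)).op (σ k)) ∧
        Subring.closure (Set.range (q.appLE V U hUV).hom ∪ T) = ⊤) :
    RelAmple.IsRelVeryAmplePn q L := by
  classical
  obtain ⟨n, hn⟩ : ∃ n, Fintype.card J = n + 1 :=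
    ⟨Fintype.card J - 1, (Nat.succ_pred_eq_of_pos Fintype.card_pos).symm⟩
  let e : J ≃ Fin (n + 1) := Fintype.equivFinOfCardEq hn
  let s : Fin (n + 1) → ProjUP.Γm L := fun i => σ (e.symm i)
  have hse : ∀ k, s (e k) = σ k := fun k => by simp [s]
  have hs : ProjUP.GeneratedBy L s := by
    apply generatedBy_of_local_basis
    intro x
    obtain ⟨k, V, U, hUV, -, -, hxU, hb, -⟩ := h x
    exact ⟨e k, U, hxU, by rw [hse]; exact hb⟩
  apply isRelVeryAmplePn_of_sections q L hL s hs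
  intro x
  obtain ⟨k, V, U, hUV, hV, hU, hxU, hb, hle, T, hT, hcl⟩ := h x
  have hUk : U ≤ Xs L s (e k) := by
    rw [Xs_eq, hse, QC.le_genLocus_iff_isBasisOver, QC.val_homOfSection]
    exact hb
  refine ⟨e k, V, U, hUk, hUV, hV, hU, hxU, ?_, ?_⟩
  · rw [Xs_eq, hse]
    exact hle
  · rw [eq_top_iff, ← hcl]
    apply Subring.closure_mono
    apply Set.union_subset_union_right
    intro b hbT
    obtain ⟨l, hl⟩ := hT b hbT
    refine ⟨e l, ?_⟩
    apply cc_res_eq L s (e k) (e l) hUk b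
    rw [hse, hse]
    exact hl

end Groth.Agent.H5.VAmple
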