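import Mathlib
import Groth.Agent.Lib.Helper5.VAmple.D

/-! # Very ample modules, part E: tensor product with a globally generated module (via Segre). -/

set_option autoImplicit false
universe u
open CategoryTheory CategoryTheory.Limits AlgebraicGeometry HomogeneousLocalization Opposite
  TopologicalSpace

namespace Groth.Agent.H5.VAmple

open Groth.Agent.LD Twist Groth.Agent.H2.PUP Groth.Agent.H5.Segre

/-- the Segre morphism pulls `O(1)` back to `O(1,1)`. -/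
theorem nonempty_iso_segre (n m : ℕ) (R : Type u) [CommRing R] :
    Nonempty ((Scheme.Modules.pullback (segre n m R)).obj
      (twist (CohB1.polyGrading (n * m + n + m) R) 1) ≅ LL n m R) := by
  obtain ⟨τ, -⟩ := exists_iso_rGlue (CohB1.polyGrading (n * m + n + m) R) (ιPn _ R)
    (ιPn_mem _ R) (isSymmetricAlgebra_ιPn _ R) (qq n m R) (LL n m R) (vv n m R)
    (vOfFamily_smul _ _ _ _) (isInvertible_LL n m R)
    (generatedBy_vOfFamily _ _ _ _ (generatedBy_sfam n m R))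
  exact ⟨τ⟩

/-- abstract form of: `(σ ∘ w, q)` is an immersion when `(pr₁ ∘ w, q)` is and `σ` is a closed
immersion. -/
theorem isImmersion_of_segre {T S X Pn PN XX PnS PNS : Scheme.{u}}
    {pn : Pn ⟶ T} {pN : PN ⟶ T} {t : S ⟶ T}
    {pr1 : XX ⟶ Pn}
    {fn : PnS ⟶ Pn} {bn : PnS ⟶ S} (hn : IsPullback fn bn pn t)
    {fN : PNS ⟶ PN} {bN : PNS ⟶ S} (hN : IsPullback fN bN pN t)
    (σ : XX ⟶ PN) [IsClosedImmersion σ] (hσ : σ ≫ pN = pr1 ≫ pn)
    (i : X ⟶ PnS) [IsImmersion i] (w : X ⟶ XX) (hw : w ≫ pr1 = i ≫ fn)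
    (φ : X ⟶ PNS) (hφ1 : φ ≫ fN = w ≫ σ) (hφ2 : φ ≫ bN = i ≫ bn) : IsImmersion φ := by
  have hXXS : IsPullback (pullback.fst (pr1 ≫ pn) t) (pullback.snd (pr1 ≫ pn) t) (pr1 ≫ pn) t :=
    IsPullback.of_hasPullback _ _
  -- the base change of `σ`
  let Sg : pullback (pr1 ≫ pn) t ⟶ PNS :=
    hN.lift (pullback.fst (pr1 ≫ pn) t ≫ σ) (pullback.snd (pr1 ≫ pn) t) (by
      rw [Category.assoc, hσ, hXXS.w])
  have hSg1 : Sg ≫ fN = pullback.fst (pr1 ≫ pn) t ≫ σ := hN.lift_fst _ _ _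
  have hSg2 : Sg ≫ bN = pullback.snd (pr1 ≫ pn) t := hN.lift_snd _ _ _
  have hsq : IsPullback Sg (pullback.fst (pr1 ≫ pn) t) fN σ := by
    refine IsPullback.of_right ?_ hSg1 hN.flip
    rw [hSg2, hσ]
    exact hXXS.flip
  haveI : IsClosedImmersion Sg :=
    MorphismProperty.of_isPullback (P := @IsClosedImmersion) hsq.flip inferInstance
  -- the projection
  let Pj : pullback (pr1 ≫ pn) t ⟶ PnS :=
    hn.lift (pullback.fst (pr1 ≫ pn) t ≫ pr1) (pullback.snd (pr1 ≫ pn) t) (by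
      rw [Category.assoc, hXXS.w])
  have hPj1 : Pj ≫ fn = pullback.fst (pr1 ≫ pn) t ≫ pr1 := hn.lift_fst _ _ _
  have hPj2 : Pj ≫ bn = pullback.snd (pr1 ≫ pn) t := hn.lift_snd _ _ _
  -- the lift of `(w, q)`
  let ψ : X ⟶ pullback (pr1 ≫ pn) t := hXXS.lift w (i ≫ bn) (by
    rw [← Category.assoc, hw, Category.assoc, Category.assoc, hn.w])
  have hψ1 : ψ ≫ pullback.fst (pr1 ≫ pn) t = w := hXXS.lift_fst _ _ _
  have hψ2 : ψ ≫ pullback.snd (pr1 ≫ pn) t = i ≫ bn := hXXS.lift_snd _ _ _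
  have hψPj : ψ ≫ Pj = i := by
    apply hn.hom_ext
    · rw [Category.assoc, hPj1, ← Category.assoc, hψ1, hw]
    · rw [Category.assoc, hPj2, hψ2]
  have hψSg : ψ ≫ Sg = φ := by
    apply hN.hom_ext
    · rw [Category.assoc, hSg1, ← Category.assoc, hψ1, hφ1]
    · rw [Category.assoc, hSg2, hψ2, hφ2]
  haveI : IsImmersion (ψ ≫ Pj) := by rw [hψPj]; infer_instance
  haveI : IsImmersion ψ := IsImmersion.of_comp ψ Pj
  rw [← hψSg]
  infer_instance

end Groth.Agent.H5.VAmple
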