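import Mathlib
import Groth.Agent.Lib.Helper5.VAmple.E

/-! # Very ample modules, part F: very ample ⊗ globally generated is very ample. -/

set_option autoImplicit false
universe u
open CategoryTheory CategoryTheory.Limits AlgebraicGeometry HomogeneousLocalization Opposite
  TopologicalSpace

namespace Groth.Agent.H5.VAmple

open Groth.Agent.LD Twist Groth.Agent.H2.PUP Groth.Agent.H5.Segre

variable {X S : Scheme.{u}}

lemma isInvertible_O1 (k : ℕ) (R : Type u) [CommRing R] :
    PicF.IsInvertible (twist (CohB1.polyGrading k R) 1) :=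
  isInvertible_twist (CohB1.polyGrading k R) (ιPn k R) (ιPn_mem k R) (isSymmetricAlgebra_ιPn k R) 1

/-- **very ample ⊗ generated by finitely many global sections is very ample** (any base). -/
theorem isRelVeryAmplePn_tensor (q : X ⟶ S) (L L' : X.Modules)
    (hL' : PicF.IsInvertible L') (hva : RelAmple.IsRelVeryAmplePn q L) {m : ℕ}
    (t : Fin (m + 1) → ProjUP.Γm L') (ht : ProjUP.GeneratedBy L' t) :
    RelAmple.IsRelVeryAmplePn q (CohB1.tensorMod L L') := by
  obtain ⟨n, i, hi, hiq, ⟨τ1⟩⟩ := hva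
  obtain ⟨τ2, -⟩ := exists_iso_toPnZ L' hL' t ht
  obtain ⟨τσ⟩ := nonempty_iso_segre n m (ULift.{u} ℤ)
  haveI := isClosedImmersion_segre n m (ULift.{u} ℤ)
  haveI : IsImmersion i := hi
  -- the morphisms
  let fn : CohB1.ProjSpaceOver n S ⟶ Proj (CohB1.polyGrading n (ULift.{u} ℤ)) :=
    pullback.fst (CohB1.ProjSpace.toSpec n (ULift.{u} ℤ)) (specULiftZIsTerminal.from S)
  let w : X ⟶ XX n m (ULift.{u} ℤ) :=
    pullback.lift (i ≫ fn) (toPnZ L' hL' t ht) (specULiftZIsTerminal.hom_ext _ _)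
  have hw1 : w ≫ pr1 n m (ULift.{u} ℤ) = i ≫ fn := pullback.lift_fst _ _ _
  have hw2 : w ≫ pr2 n m (ULift.{u} ℤ) = toPnZ L' hL' t ht := pullback.lift_snd _ _ _
  let φ : X ⟶ CohB1.ProjSpaceOver (n * m + n + m) S :=
    pullback.lift (f := CohB1.ProjSpace.toSpec (n * m + n + m) (ULift.{u} ℤ))
      (g := specULiftZIsTerminal.from S) (w ≫ segre n m (ULift.{u} ℤ)) q
      (specULiftZIsTerminal.hom_ext _ _)
  have hφ1 : φ ≫ pullback.fst (CohB1.ProjSpace.toSpec (n * m + n + m) (ULift.{u} ℤ))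
      (specULiftZIsTerminal.from S) = w ≫ segre n m (ULift.{u} ℤ) := pullback.lift_fst _ _ _
  have hφ2 : φ ≫ pullback.snd (CohB1.ProjSpace.toSpec (n * m + n + m) (ULift.{u} ℤ))
      (specULiftZIsTerminal.from S) = q := pullback.lift_snd _ _ _
  refine ⟨n * m + n + m, φ, ?_, hφ2, ?_⟩
  · -- immersion
    exact isImmersion_of_segre (Pn := Proj (CohB1.polyGrading n (ULift.{u} ℤ)))
      (PN := Proj (CohB1.polyGrading (n * m + n + m) (ULift.{u} ℤ)))
      (PnS := CohB1.ProjSpaceOver n S) (PNS := CohB1.ProjSpaceOver (n * m + n + m) S)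
      (pn := projStr (CohB1.polyGrading n (ULift.{u} ℤ)))
      (pN := projStr (CohB1.polyGrading (n * m + n + m) (ULift.{u} ℤ)))
      (hn := IsPullback.of_hasPullback (CohB1.ProjSpace.toSpec n (ULift.{u} ℤ))
        (specULiftZIsTerminal.from S))
      (hN := IsPullback.of_hasPullback (CohB1.ProjSpace.toSpec (n * m + n + m) (ULift.{u} ℤ))
        (specULiftZIsTerminal.from S))
      (segre n m (ULift.{u} ℤ)) (segre_projStr n m (ULift.{u} ℤ)) i w hw1 φ hφ1
      (hφ2.trans hiq.symm)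
  · -- the isomorphism
    have hL1 : PicF.IsInvertible (L1 n m (ULift.{u} ℤ)) :=
      QC.isInvertible_pullback (pr1 n m (ULift.{u} ℤ)) (isInvertible_O1 n _)
    have hL2 : PicF.IsInvertible (L2 n m (ULift.{u} ℤ)) :=
      QC.isInvertible_pullback (pr2 n m (ULift.{u} ℤ)) (isInvertible_O1 m _)
    let a : (Scheme.Modules.pullback w).obj (L1 n m (ULift.{u} ℤ)) ≅ L :=
      (Scheme.Modules.pullbackComp w (pr1 n m (ULift.{u} ℤ))).app _ ≪≫
        (Scheme.Modules.pullbackCongr hw1).app _ ≪≫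
        ((Scheme.Modules.pullbackComp i fn).app _).symm ≪≫ τ1.symm
    let b : (Scheme.Modules.pullback w).obj (L2 n m (ULift.{u} ℤ)) ≅ L' :=
      (Scheme.Modules.pullbackComp w (pr2 n m (ULift.{u} ℤ))).app _ ≪≫
        (Scheme.Modules.pullbackCongr hw2).app _ ≪≫ τ2
    refine ⟨QC.tensorIso' a.symm b.symm ≪≫
      (QC.pbTensorIso w (L1 n m (ULift.{u} ℤ)) (L2 n m (ULift.{u} ℤ)) hL1 hL2).symm ≪≫
      (Scheme.Modules.pullback w).mapIso τσ.symm ≪≫
      (Scheme.Modules.pullbackComp w (segre n m (ULift.{u} ℤ))).app _ ≪≫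
      (Scheme.Modules.pullbackCongr hφ1.symm).app _ ≪≫
      ((Scheme.Modules.pullbackComp φ (pullback.fst (CohB1.ProjSpace.toSpec (n * m + n + m)
        (ULift.{u} ℤ)) (specULiftZIsTerminal.from S))).app _).symm⟩

end Groth.Agent.H5.VAmple

namespace Groth.Agent.H5.VAmple

variable {X S : Scheme.{u}}

/-- adding the zero section keeps a family generating. -/
lemma generatedBy_cons_zero (L : X.Modules) {m : ℕ} (s : Fin m → ProjUP.Γm L)
    (hs : ProjUP.GeneratedBy L s) :
    ProjUP.GeneratedBy L (Fin.cons (0 : ProjUP.Γm L) s : Fin (m + 1) → ProjUP.Γm L) := by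
  intro x
  rw [eq_top_iff, ← hs x]
  apply Submodule.span_mono
  rintro _ ⟨i, rfl⟩
  exact ⟨i.succ, by simp only [Fin.cons_succ]⟩

/-- the same with any finite family of generating sections. -/
theorem isRelVeryAmplePn_tensor' (q : X ⟶ S) (L L' : X.Modules)
    (hL' : PicF.IsInvertible L') (hva : RelAmple.IsRelVeryAmplePn q L) {m : ℕ}
    (s : Fin m → ProjUP.Γm L') (hs : ProjUP.GeneratedBy L' s) :
    RelAmple.IsRelVeryAmplePn q (CohB1.tensorMod L L') :=
  isRelVeryAmplePn_tensor q L L' hL' hva _ (generatedBy_cons_zero L' s hs)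

end Groth.Agent.H5.VAmple
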