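import Mathlib
import Groth.Agent.Lib.Helper5.VAmple.F
import Groth.Agent.Lib.Lead.QC.AmpleGG
import Groth.Agent.Lib.Lead.QC.AmpleFinite2
import Groth.Agent.Lib.Lead.QC.Mon

/-! # Very ample modules, part G: a power of an ample module is very ample. -/

set_option autoImplicit false
universe u
open CategoryTheory CategoryTheory.Limits AlgebraicGeometry Opposite TopologicalSpace

namespace Groth.Agent.H5.VAmple

open Groth.Agent.LD Groth.Agent.LD.QC

variable {X S : Scheme.{u}}

/-- a variant of `exists_common_power` keeping track of a property of the loci. -/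
theorem exists_common_power' [CompactSpace X] (L : X.Modules) (hinv : PicF.IsInvertible L)
    (P : X.Opens → Prop)
    (h : ∀ x : X, ∃ (n : ℕ) (s : unitMod X ⟶ CohB1.tensorPow L (n + 1)),
      x ∈ CohB1.genLocus _ s ∧ P (CohB1.genLocus _ s)) :
    ∃ (m : ℕ) (_ : 0 < m) (r : ℕ) (s : Fin r → (unitMod X ⟶ CohB1.tensorPow L m)),
      (∀ i, P (CohB1.genLocus _ (s i))) ∧ ∀ x : X, ∃ i, x ∈ CohB1.genLocus _ (s i) := by
  classical
  haveI : L.IsQuasicoherent := qc_of_isInvertible L hinv
  choose n s hxs hP using h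
  obtain ⟨t0, ht0⟩ := isCompact_univ.elim_finite_subcover
    (fun x : X => (CohB1.genLocus _ (s x) : Set X)) (fun x => (CohB1.genLocus _ (s x)).2)
    (fun x _ => Set.mem_iUnion.mpr ⟨x, hxs x⟩)
  let m := ∏ y ∈ t0, (n y + 1)
  have hm : 0 < m := Finset.prod_pos fun y _ => Nat.succ_pos _
  have hdvd : ∀ y ∈ t0, ∃ q : ℕ, m = (n y + 1) * (q + 1) := by
    intro y hy
    obtain ⟨c, hc⟩ := Finset.dvd_prod_of_mem (fun y => n y + 1) hy
    have hc0 : c ≠ 0 := by
      rintro rfl
      rw [mul_zero] at hc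
      exact hm.ne' hc
    obtain ⟨q, rfl⟩ := Nat.exists_eq_succ_of_ne_zero hc0
    exact ⟨q, hc⟩
  let e := t0.equivFin
  choose q hq using fun i : Fin t0.card => hdvd (e.symm i).1 (e.symm i).2
  have hidx : ∀ i : Fin t0.card, powIdx (n (e.symm i).1 + 1) (q i + 1) = m := fun i => by
    rw [powIdx_eq, hq i]
  refine ⟨m, hm, t0.card,
    fun i => secMulPow L (s (e.symm i).1) (q i + 1) ≫ (castPow L (hidx i)).hom, ?_, ?_⟩
  · intro i
    rw [genLocus_comp_iso, genLocus_secMulPow hinv]
    exact hP _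
  · intro x
    obtain ⟨y, hy, hxy⟩ := Set.mem_iUnion₂.mp (ht0 (Set.mem_univ x))
    refine ⟨e ⟨y, hy⟩, ?_⟩
    rw [genLocus_comp_iso, genLocus_secMulPow hinv, e.symm_apply_apply]
    exact hxy

/-- a finite set of ring generators of a ring map of finite type. -/
lemma exists_finset_closure_eq_top {A B : Type*} [CommRing A] [CommRing B] (φ : A →+* B)
    (hφ : φ.FiniteType) :
    ∃ G : Finset B, Subring.closure (Set.range φ ∪ (G : Set B)) = ⊤ := by
  letI := φ.toAlgebra
  obtain ⟨G, hG⟩ := (show Algebra.FiniteType A B from hφ).out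
  refine ⟨G, ?_⟩
  have h := Algebra.adjoin_eq_ring_closure (R := A) (G : Set B)
  rw [hG] at h
  have h2 : (⊤ : Subalgebra A B).toSubring = ⊤ := rfl
  rw [h2] at h
  exact h.symm

end Groth.Agent.H5.VAmple
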