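import Mathlib
import Groth.Agent.Lib.Helper5.VAmple.G
import Groth.Agent.Lib.Helper5.VAmple.D2

/-! # Very ample modules, part H: a power of an ample module is very ample (main step). -/

set_option autoImplicit false
universe u
open CategoryTheory CategoryTheory.Limits AlgebraicGeometry Opposite TopologicalSpace

namespace Groth.Agent.H5.VAmple

open Groth.Agent.LD Groth.Agent.LD.QC

variable {X S : Scheme.{u}}

/-- the global section of `M^N` extending `b • s^N` from `X_s`. -/
theorem exists_section_eq_smul_pow [CompactSpace X] [QuasiSeparatedSpace X] (M : X.Modules)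
    (hM : PicF.IsInvertible M) (s : unitMod X ⟶ M) (b : Γ(X, CohB1.genLocus M s)) :
    ∃ n₀ : ℕ, ∀ N : ℕ, n₀ ≤ N → ∃ t : Γ(CohB1.tensorPow M N, ⊤),
      (CohB1.tensorPow M N).presheaf.map (homOfLE (le_top : CohB1.genLocus M s ≤ ⊤)).op t =
        b • SecTwist.val (SecTwist.powHom s N) (CohB1.genLocus M s) := by
  haveI : M.IsQuasicoherent := qc_of_isInvertible M hM
  obtain ⟨n, -, t', ht'⟩ := exists_extension_twist M hM s (unitMod X) b
  refine ⟨n, fun N hN => ?_⟩
  obtain ⟨t'', ht''⟩ := extension_of_le M s (unitMod X) b n ⟨t', ht'⟩ N hN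
  refine ⟨(unitorL (CohB1.tensorPow M N)).hom.app ⊤ t'', ?_⟩
  rw [← app_res, ht'', SecTwist.twist, unitorL_hom_app_tmul, SecTwist.val_powHom]
  rfl

/-- **a power of an ample module is very ample** relative to any morphism locally of finite
type. -/
theorem exists_pow_isRelVeryAmplePn (q : X ⟶ S) [LocallyOfFiniteType q] (L : X.Modules)
    (hL : CohB1.IsAmple L) :
    ∃ m N : ℕ, 0 < m ∧ 0 < N ∧
      RelAmple.IsRelVeryAmplePn q (CohB1.tensorPow (CohB1.tensorPow L m) N) := by
  classical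
  have hinv := hL.1
  haveI := hL.2.1
  haveI : X.IsSeparated := isSeparated_of_affine_genLocus L hinv hL.2.2
  haveI : QuasiSeparatedSpace X := inferInstance
  haveI : L.IsQuasicoherent := qc_of_isInvertible L hinv
  obtain ⟨m, hm, r, s, hP, hcov⟩ := exists_common_power' L hinv
    (fun U => IsAffineOpen U ∧ ∃ V : S.Opens, IsAffineOpen V ∧ U ≤ q ⁻¹ᵁ V) (by
      intro x
      obtain ⟨V, hV, hxV, -⟩ := exists_isAffineOpen_mem_and_subset (x := q x) (U := ⊤) trivial
      obtain ⟨n, s, hxs, hle, haff⟩ := exists_affine_genLocus_le L hL x (q ⁻¹ᵁ V) hxV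
      exact ⟨n, s, hxs, haff, V, hV, hle⟩)
  have hM : PicF.IsInvertible (CohB1.tensorPow L m) := isInvertible_tensorPow hinv m
  haveI : (CohB1.tensorPow L m).IsQuasicoherent := qc_of_isInvertible _ hM
  choose haff V hV hUV using hP
  choose G hG using fun k => exists_finset_closure_eq_top (q.appLE (V k) _ (hUV k)).hom
    (q.finiteType_appLE (hV k) (haff k) (hUV k))
  choose n₀ hn₀ using fun (k : Fin r) (b : Γ(X, CohB1.genLocus _ (s k))) =>
    exists_section_eq_smul_pow (CohB1.tensorPow L m) hM (s k) b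
  obtain ⟨N, hN1, hN⟩ : ∃ N : ℕ, 0 < N ∧ ∀ k, ∀ b ∈ G k, n₀ k b ≤ N := by
    refine ⟨1 + Finset.univ.sup (fun k => (G k).sup (n₀ k)), by omega, fun k b hb => ?_⟩
    have h1 : n₀ k b ≤ (G k).sup (n₀ k) := Finset.le_sup hb
    have h2 : (G k).sup (n₀ k) ≤ Finset.univ.sup (fun k => (G k).sup (n₀ k)) :=
      Finset.le_sup (f := fun k => (G k).sup (n₀ k)) (Finset.mem_univ k)
    omega
  choose t ht using fun (k : Fin r) (b : {b // b ∈ G k}) => hn₀ k b.1 N (hN k b.1 b.2)
  have hMN : PicF.IsInvertible (CohB1.tensorPow (CohB1.tensorPow L m) N) :=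
    isInvertible_tensorPow hM N
  let σ : Option (Fin r ⊕ Σ k : Fin r, {b // b ∈ G k}) →
      ProjUP.Γm (CohB1.tensorPow (CohB1.tensorPow L m) N) := fun j =>
    match j with
    | none => 0
    | some (Sum.inl k) => sectionOfHom (SecTwist.powHom (s k) N)
    | some (Sum.inr ⟨k, b⟩) => t k b
  refine ⟨m, N, hm, hN1, isRelVeryAmplePn_of_family' q _ hMN σ ?_⟩
  intro x
  obtain ⟨k, hxk⟩ := hcov x
  have hgl : CohB1.genLocus (CohB1.tensorPow (CohB1.tensorPow L m) N) (SecTwist.powHom (s k) N) =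
      CohB1.genLocus _ (s k) := by
    obtain ⟨N', rfl⟩ : ∃ N', N = N' + 1 := ⟨N - 1, by omega⟩
    exact genLocus_powHom_succ hM (s k) N'
  have hres : (CohB1.tensorPow (CohB1.tensorPow L m) N).presheaf.map
      (homOfLE (le_top : CohB1.genLocus _ (s k) ≤ ⊤)).op (σ (some (Sum.inl k))) =
      SecTwist.val (SecTwist.powHom (s k) N) (CohB1.genLocus _ (s k)) :=
    SecTwist.map_val (SecTwist.powHom (s k) N) (homOfLE le_top)
  refine ⟨some (Sum.inl k), V k, CohB1.genLocus _ (s k), hUV k, hV k, haff k, hxk, ?_⟩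
  refine ⟨?_, ?_, ((G k : Finset _) : Set Γ(X, CohB1.genLocus _ (s k))), ?_, ?_⟩
  rotate_left 3
  · exact hG k
  · rw [hres]
    exact (le_genLocus_iff_isBasisOver _ _ _).mp hgl.ge
  · change CohB1.genLocus _ (homOfSection _ (sectionOfHom (SecTwist.powHom (s k) N))) ⊓ _ ≤ _
    rw [homOfSection_sectionOfHom, hgl]
    exact inf_le_left
  · intro b hb
    refine ⟨some (Sum.inr ⟨k, ⟨b, hb⟩⟩), ?_⟩
    rw [hres]
    exact ht k ⟨b, hb⟩

end Groth.Agent.H5.VAmple
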