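import Mathlib
import Groth.Agent.Lib.Helper5.VAmple.H

/-! # Very ample modules, part I: all large powers of an ample module are very ample. -/

set_option autoImplicit false
universe u
open CategoryTheory CategoryTheory.Limits AlgebraicGeometry Opposite TopologicalSpace

namespace Groth.Agent.H5.VAmple

open Groth.Agent.LD Groth.Agent.LD.QC

variable {X S : Scheme.{u}}

/-- sections whose generating loci cover generate. -/
lemma generatedBy_of_forall_mem_genLocus (M : X.Modules) {J : Type*} (t : J → ProjUP.Γm M)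
    (h : ∀ x : X, ∃ j, x ∈ CohB1.genLocus M (homOfSection M (t j))) : ProjUP.GeneratedBy M t := by
  apply Groth.Agent.H5.Segre.generatedBy_of_local_basis
  intro x
  obtain ⟨j, hj⟩ := h x
  refine ⟨j, CohB1.genLocus M (homOfSection M (t j)), hj, ?_⟩
  have h1 := (le_genLocus_iff_isBasisOver M (homOfSection M (t j)) _).mp le_rfl
  rwa [val_homOfSection] at h1

/-- an epimorphism from a finite free module onto an invertible module gives finitely many
generating global sections. -/
lemma exists_generatedBy_of_epi (M : X.Modules) (hM : PicF.IsInvertible M) {K : ℕ}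
    (p : FlatMod.freeMod X K ⟶ M) (hp : Epi p) :
    ∃ t : Fin K → ProjUP.Γm M, ProjUP.GeneratedBy M t := by
  refine ⟨fun j => sectionOfHom (Sigma.ι (fun _ : Fin K => unitMod X) j ≫ p), ?_⟩
  apply generatedBy_of_forall_mem_genLocus
  intro x
  obtain ⟨j, hj⟩ := exists_mem_genLocus_of_epi M hM p hp x
  exact ⟨j, by rw [homOfSection_sectionOfHom]; exact hj⟩

/-- **twists of a coherent invertible module by large powers of an ample module are very
ample.** -/
theorem eventually_isRelVeryAmplePn_tensor (q : X ⟶ S) [LocallyOfFiniteType q] (L L' : X.Modules)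
    (hL : CohB1.IsAmple L) (hL' : PicF.IsInvertible L') :
    ∃ n₀ : ℕ, 0 < n₀ ∧ ∀ n : ℕ, n₀ ≤ n →
      RelAmple.IsRelVeryAmplePn q (CohB1.tensorMod (CohB1.tensorPow L n) L') := by
  have hinv := hL.1
  haveI := hL.2.1
  haveI : X.IsSeparated := isSeparated_of_affine_genLocus L hinv hL.2.2
  haveI : QuasiSeparatedSpace X := inferInstance
  haveI : L.IsQuasicoherent := qc_of_isInvertible L hinv
  haveI : L'.IsQuasicoherent := qc_of_isInvertible L' hL'
  obtain ⟨m, N, hm, hN, hva⟩ := exists_pow_isRelVeryAmplePn q L hL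
  have hva' : RelAmple.IsRelVeryAmplePn q (CohB1.tensorPow L (powIdx m N)) :=
    isRelVeryAmplePn_of_iso q (powPowIso L m N) hva
  have ha : 0 < powIdx m N := by rw [powIdx_eq]; exact Nat.mul_pos hm hN
  obtain ⟨n₁, hn₁⟩ := exists_epi_free_of_isAmple L hL L' (isFiniteType_of_isInvertible L' hL')
  refine ⟨powIdx m N + n₁, by omega, fun n hn => ?_⟩
  obtain ⟨e, rfl⟩ : ∃ e, n = powIdx m N + e := ⟨n - powIdx m N, by omega⟩
  obtain ⟨K, p, hp⟩ := hn₁ e (by omega)
  have hinvE : PicF.IsInvertible (CohB1.tensorMod L' (CohB1.tensorPow L e)) :=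
    isInvertible_tensorMod hL' (isInvertible_tensorPow hinv e)
  obtain ⟨t, ht⟩ := exists_generatedBy_of_epi _ hinvE p hp
  have h1 := isRelVeryAmplePn_tensor' q (CohB1.tensorPow L (powIdx m N))
    (CohB1.tensorMod L' (CohB1.tensorPow L e)) hinvE hva' t ht
  refine isRelVeryAmplePn_of_iso q ?_ h1
  exact tensorIso' (Iso.refl _) (tensorComm L' (CohB1.tensorPow L e)) ≪≫
    (tensorAssoc (CohB1.tensorPow L (powIdx m N)) (CohB1.tensorPow L e) L').symm ≪≫
    tensorIso' (powAddIso L (powIdx m N) e) (Iso.refl L')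

/-- **all large powers of an ample module are very ample.** -/
theorem eventually_isRelVeryAmplePn_tensorPow (q : X ⟶ S) [LocallyOfFiniteType q]
    (L : X.Modules) (hL : CohB1.IsAmple L) :
    ∃ d₀ : ℕ, 0 < d₀ ∧ ∀ d : ℕ, d₀ ≤ d →
      RelAmple.IsRelVeryAmplePn q (CohB1.tensorPow L d) := by
  haveI : L.IsQuasicoherent := qc_of_isInvertible L hL.1
  obtain ⟨n₀, hn₀, h⟩ := eventually_isRelVeryAmplePn_tensor q L (unitMod X) hL
    (isInvertible_unit X)
  refine ⟨n₀, hn₀, fun d hd => ?_⟩
  exact isRelVeryAmplePn_of_iso q (SecTwist.unitorR _) (h d hd)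

end Groth.Agent.H5.VAmple
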