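import Mathlib
import Groth.Agent.Lib.Helper5.VAmple.I
import Groth.Agent.Lib.Helper5.AG.ProjProper
import Groth.Agent.Lib.Lead.TW.Ample
import Groth.Agent.Lib.Lead.QC.PullAmple
import Groth.Agent.S2327

/-! # Very ample modules, part J: very ample implies ample over an affine base. -/

set_option autoImplicit false
universe u
open CategoryTheory CategoryTheory.Limits AlgebraicGeometry Opposite TopologicalSpace

namespace Groth.Agent.H5.VAmple

open Groth.Agent.LD Groth.Agent.LD.QC Twist Groth.Agent.H2.PUP Groth.Agent.H5.Segre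

/-- `O(1)` on projective space over a ring is ample. -/
theorem isAmple_O1 (k : ℕ) (R : Type u) [CommRing R] :
    CohB1.IsAmple (twist (CohB1.polyGrading k R) 1) := by
  classical
  apply Groth.Agent.LD.TW.isAmple_twist_one
    (Finset.univ.image (fun j : Fin (k + 1) => xi k R j))
  · intro f hf
    obtain ⟨j, -, rfl⟩ := Finset.mem_image.mp hf
    exact xi_mem k R j
  · apply le_antisymm
    · refine (irrelevant_le_span_of_span (CohB1.polyGrading k R) (ιPn k R) (ιPn_mem k R)
        (isSymmetricAlgebra_ιPn k R) (fun j : Fin (k + 1) => ei k R j) (span_single k R)).trans ?_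
      apply Ideal.span_mono
      rintro _ ⟨j, rfl⟩
      exact Finset.mem_coe.mpr (Finset.mem_image.mpr ⟨j, Finset.mem_univ _, rfl⟩)
    · rw [irrelevant_eq_span (CohB1.polyGrading k R) (ιPn k R) (ιPn_mem k R)
        (isSymmetricAlgebra_ιPn k R)]
      apply Ideal.span_mono
      intro f hf
      obtain ⟨j, -, rfl⟩ := Finset.mem_image.mp (Finset.mem_coe.mp hf)
      exact ⟨_, rfl⟩

/-- `O(1)` on projective space over an affine scheme is ample. -/
theorem isAmple_twistOver (k : ℕ) (Y : Scheme.{u}) [IsAffine Y] :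
    CohB1.IsAmple (Twist.twistOver k Y 1) := by
  haveI := Groth.Agent.H5.AG.isProper_toBase k Y
  haveI : CompactSpace (CohB1.ProjSpaceOver k Y) :=
    QuasiCompact.compactSpace_of_compactSpace (CohB1.ProjSpaceOver.toBase k Y)
  unfold Twist.twistOver
  apply isAmple_pullback_of_affine_nhds _ _ (isAmple_O1 k (ULift.{u} ℤ))
  intro x'
  obtain ⟨j, hj⟩ := exists_mem_Dp k (ULift.{u} ℤ)
    ((pullback.fst (CohB1.ProjSpace.toSpec k (ULift.{u} ℤ)) (specULiftZIsTerminal.from Y)) x')
  refine ⟨Dp k (ULift.{u} ℤ) j,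
    pullback.fst (CohB1.ProjSpace.toSpec k (ULift.{u} ℤ)) (specULiftZIsTerminal.from Y) ⁻¹ᵁ
        Dp k (ULift.{u} ℤ) j ⊓
      pullback.snd (CohB1.ProjSpace.toSpec k (ULift.{u} ℤ)) (specULiftZIsTerminal.from Y) ⁻¹ᵁ ⊤,
    hj, ?_, ?_⟩
  · exact isAffineOpen_inf_of_isPullback (IsPullback.of_hasPullback _ _)
      (isAffineOpen_Dp k (ULift.{u} ℤ) j) (isAffineOpen_top Y) (isAffineOpen_top _) le_top le_top
  · exact le_inf le_rfl le_top

variable {X Y : Scheme.{u}}

/-- a very ample module (relative to a quasi-compact morphism to an affine scheme) is ample. -/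
theorem isAmple_of_isRelVeryAmplePn [IsAffine Y] (q : X ⟶ Y) [QuasiCompact q] (L : X.Modules)
    (h : RelAmple.IsRelVeryAmplePn q L) : CohB1.IsAmple L := by
  obtain ⟨k, i, hi, -, ⟨τ⟩⟩ := h
  haveI : CompactSpace X := QuasiCompact.compactSpace_of_compactSpace q
  haveI : IsImmersion i := hi
  have h1 := isAmple_pullback_of_affine_nhds i _ (isAmple_twistOver k Y) (by
    intro x'
    obtain ⟨W', hW', hxW', -⟩ :=
      exists_isAffineOpen_mem_and_subset (X := X) (x := x') (U := ⊤) trivial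
    obtain ⟨t, ht, hte⟩ := i.isEmbedding.isInducing.isOpen_iff.mp W'.2
    refine ⟨⟨t, ht⟩, W', ?_, hW', ?_⟩
    · have : x' ∈ i ⁻¹' t := by rw [hte]; exact hxW'
      exact this
    · intro z hz
      have : z ∈ i ⁻¹' t := hz
      rw [hte] at this
      exact this)
  exact isAmple_of_iso τ.symm h1

/-- **EGA II 4.5.10**: over an affine base, ample ⇔ some positive power is very ample, and then
all large powers are. -/
theorem ample_iff_some_power_veryAmple [IsAffine Y] (q : X ⟶ Y) [IsSeparated q]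
    [QuasiCompact q] [LocallyOfFiniteType q] (L : X.Modules) (hL : PicF.IsInvertible L) :
    (CohB1.IsAmple L ↔ ∃ n : ℕ, 0 < n ∧ RelAmple.IsRelVeryAmplePn q (CohB1.tensorPow L n)) ∧
      (CohB1.IsAmple L →
        ∃ n₀ : ℕ, ∀ n, n₀ ≤ n → RelAmple.IsRelVeryAmplePn q (CohB1.tensorPow L n)) := by
  refine ⟨⟨fun hA => ?_, ?_⟩, fun hA => ?_⟩
  · obtain ⟨d₀, hd₀, h⟩ := eventually_isRelVeryAmplePn_tensorPow q L hA
    exact ⟨d₀, hd₀, h d₀ le_rfl⟩
  · rintro ⟨n, hn, hva⟩
    haveI : CompactSpace X := QuasiCompact.compactSpace_of_compactSpace q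
    haveI : X.IsSeparated := ⟨by rw [← terminal.comp_from q]; infer_instance⟩
    exact (Groth.Agent.S2327.result X L hL n hn).mpr (isAmple_of_isRelVeryAmplePn q _ hva)
  · obtain ⟨d₀, -, h⟩ := eventually_isRelVeryAmplePn_tensorPow q L hA
    exact ⟨d₀, h⟩

end Groth.Agent.H5.VAmple
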