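import Mathlib
import Groth.Agent.Lib.Helper5.VAmple.J
import Groth.Agent.Lib.Lead.QC.CompAmple
import Groth.Agent.S9815
import Groth.Agent.Lib.Lead.QC.RestrictOpen

/-! # Very ample modules, part K: relative ampleness of `O(1)` and of pullbacks along immersions. -/

set_option autoImplicit false
universe u
open CategoryTheory CategoryTheory.Limits AlgebraicGeometry Opposite TopologicalSpace

namespace Groth.Agent.H5.VAmple

open Groth.Agent.LD Groth.Agent.LD.QC Twist Groth.Agent.H2.PUP Groth.Agent.H5.Segre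

/-- the preimage of a quasi-compact open under a quasi-compact morphism is a quasi-compact
scheme. -/
lemma compactSpace_preimage {X S : Scheme.{u}} (f : X ⟶ S) [QuasiCompact f] {V : S.Opens}
    (hV : IsCompact (V : Set S)) : CompactSpace ((f ⁻¹ᵁ V : X.Opens) : Scheme.{u}) :=
  isCompact_iff_compactSpace.mp (QuasiCompact.isCompact_preimage (f := f) _ V.2 hV)

/-- **`O(1)` is ample relative to the projection `P^n_S ⟶ S`.** -/
theorem isRelAmple_twistOver (n : ℕ) (S : Scheme.{u}) :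
    RelAmple.IsRelAmple (CohB1.ProjSpaceOver.toBase n S) (Twist.twistOver n S 1) := by
  haveI := Groth.Agent.H5.AG.isProper_toBase n S
  refine ⟨inferInstance, fun V => ?_⟩
  haveI : CompactSpace ((CohB1.ProjSpaceOver.toBase n S ⁻¹ᵁ V.1 :
      (CohB1.ProjSpaceOver n S).Opens) : Scheme.{u}) :=
    compactSpace_preimage _ V.2.isCompact
  let fst := pullback.fst (CohB1.ProjSpace.toSpec n (ULift.{u} ℤ)) (specULiftZIsTerminal.from S)
  let U : (CohB1.ProjSpaceOver n S).Opens := CohB1.ProjSpaceOver.toBase n S ⁻¹ᵁ V.1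
  have iso : (Twist.twistOver n S 1).restrict U.ι ≅
      (Scheme.Modules.pullback (U.ι ≫ fst)).obj (twist (CohB1.polyGrading n (ULift.{u} ℤ)) 1) :=
    (Scheme.Modules.restrictFunctorIsoPullback U.ι).app _ ≪≫
      (Scheme.Modules.pullbackComp U.ι fst).app _
  refine isAmple_of_iso iso.symm ?_
  apply isAmple_pullback_of_affine_nhds _ _ (isAmple_O1 n (ULift.{u} ℤ))
  intro x'
  obtain ⟨j, hj⟩ := exists_mem_Dp n (ULift.{u} ℤ) ((U.ι ≫ fst) x')
  let W0 : (CohB1.ProjSpaceOver n S).Opens := fst ⁻¹ᵁ Dp n (ULift.{u} ℤ) j ⊓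
      pullback.snd (CohB1.ProjSpace.toSpec n (ULift.{u} ℤ)) (specULiftZIsTerminal.from S) ⁻¹ᵁ V.1
  have hW0 : IsAffineOpen W0 :=
    isAffineOpen_inf_of_isPullback (IsPullback.of_hasPullback _ _)
      (isAffineOpen_Dp n (ULift.{u} ℤ) j) V.2 (isAffineOpen_top _) le_top le_top
  refine ⟨Dp n (ULift.{u} ℤ) j, U.ι ⁻¹ᵁ W0, hj, ?_, ?_⟩
  · refine hW0.preimage_of_isOpenImmersion U.ι ?_
    rw [Scheme.Opens.opensRange_ι]
    exact inf_le_right
  · intro z hz
    exact ⟨hz, z.2⟩

/-- **the pullback of a relatively ample module along an immersion is relatively ample.** -/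
theorem isRelAmple_pullback_of_immersion {X Z S : Scheme.{u}} (i : X ⟶ Z) [IsImmersion i]
    (g : Z ⟶ S) (A : Z.Modules) (hA : RelAmple.IsRelAmple g A) [QuasiCompact (i ≫ g)] :
    RelAmple.IsRelAmple (i ≫ g) ((Scheme.Modules.pullback i).obj A) := by
  refine ⟨inferInstance, fun V => ?_⟩
  haveI : CompactSpace (((i ≫ g) ⁻¹ᵁ V.1 : X.Opens) : Scheme.{u}) :=
    compactSpace_preimage _ V.2.isCompact
  let UZ : Z.Opens := g ⁻¹ᵁ V.1
  let UX : X.Opens := (i ≫ g) ⁻¹ᵁ V.1
  have hle : UX ≤ i ⁻¹ᵁ UZ := le_rfl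
  let iV : (UX : Scheme.{u}) ⟶ UZ := i.resLE UZ UX hle
  have hiV : iV ≫ UZ.ι = UX.ι ≫ i := Scheme.Hom.resLE_comp_ι i hle
  have h1 : CohB1.IsAmple ((Scheme.Modules.pullback iV).obj (A.restrict UZ.ι)) :=
    Groth.Agent.S9815.result iV iV.isEmbedding _ (hA.2 V)
  refine isAmple_of_iso ?_ h1
  exact (Scheme.Modules.pullback iV).mapIso ((Scheme.Modules.restrictFunctorIsoPullback UZ.ι).app A) ≪≫
    (Scheme.Modules.pullbackComp iV UZ.ι).app A ≪≫
    (Scheme.Modules.pullbackCongr hiV).app A ≪≫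
    ((Scheme.Modules.pullbackComp UX.ι i).app A).symm ≪≫
    ((Scheme.Modules.restrictFunctorIsoPullback UX.ι).app _).symm

/-- **an ample module is ample relative to any quasi-compact morphism.** -/
theorem isRelAmple_of_isAmple {X S : Scheme.{u}} (f : X ⟶ S) [QuasiCompact f] (L : X.Modules)
    (hL : CohB1.IsAmple L) : RelAmple.IsRelAmple f L := by
  haveI := hL.2.1
  haveI : X.IsSeparated := isSeparated_of_affine_genLocus L hL.1 hL.2.2
  refine ⟨inferInstance, fun V => ?_⟩
  haveI : CompactSpace ((f ⁻¹ᵁ V.1 : X.Opens) : Scheme.{u}) :=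
    compactSpace_preimage _ V.2.isCompact
  exact isAmple_restrict (f ⁻¹ᵁ V.1).ι L hL

/-- a morphism factoring through a quasi-compact immersion into `P^n_S` carries a relatively
ample module, namely the pullback of `O(1)`. -/
theorem isRelAmple_pullback_twistOver {X S : Scheme.{u}} {n : ℕ} (i : X ⟶ CohB1.ProjSpaceOver n S)
    [IsImmersion i] [QuasiCompact (i ≫ CohB1.ProjSpaceOver.toBase n S)] :
    RelAmple.IsRelAmple (i ≫ CohB1.ProjSpaceOver.toBase n S)
      ((Scheme.Modules.pullback i).obj (Twist.twistOver n S 1)) :=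
  isRelAmple_pullback_of_immersion i _ _ (isRelAmple_twistOver n S)

/-- if the base carries an ample module, so does any scheme quasi-compactly immersed in a
projective space over it. -/
theorem exists_isAmple_of_immersion {X S : Scheme.{u}} (hS : ∃ N : S.Modules, CohB1.IsAmple N)
    {n : ℕ} (i : X ⟶ CohB1.ProjSpaceOver n S) [IsImmersion i]
    [QuasiCompact (i ≫ CohB1.ProjSpaceOver.toBase n S)] : ∃ L : X.Modules, CohB1.IsAmple L := by
  obtain ⟨N, hN⟩ := hS
  obtain ⟨n₀, h⟩ := exists_isAmple_twist_pullback (i ≫ CohB1.ProjSpaceOver.toBase n S) N hN _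
    (isRelAmple_pullback_twistOver i)
  exact ⟨_, h n₀ le_rfl⟩

end Groth.Agent.H5.VAmple
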