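import Mathlib
import Groth.Agent.Lib.Helper5.VAmple.K

/-! # Very ample modules, part L: quasi-projective morphisms over a base with an ample module. -/

set_option autoImplicit false
universe u
open CategoryTheory CategoryTheory.Limits AlgebraicGeometry Opposite TopologicalSpace

namespace Groth.Agent.H5.VAmple

open Groth.Agent.LD Groth.Agent.LD.QC

variable {X S : Scheme.{u}}

/-- an immersion into `P^n_S` over `S` from an ample module on `X` (`f` of finite type). -/
theorem exists_immersion_of_isAmple (f : X ⟶ S) [LocallyOfFiniteType f] [QuasiCompact f]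
    (L : X.Modules) (hL : CohB1.IsAmple L) :
    ∃ (n : ℕ) (i : X ⟶ CohB1.ProjSpaceOver n S), IsImmersion i ∧ QuasiCompact i ∧
      i ≫ CohB1.ProjSpaceOver.toBase n S = f := by
  obtain ⟨d₀, -, h⟩ := eventually_isRelVeryAmplePn_tensorPow f L hL
  obtain ⟨n, i, hi, hif, -⟩ := h d₀ le_rfl
  refine ⟨n, i, hi, ?_, hif⟩
  haveI := Groth.Agent.H5.AG.isProper_toBase n S
  haveI : QuasiCompact (i ≫ CohB1.ProjSpaceOver.toBase n S) := by
    change QuasiCompact (i ≫ pullback.snd _ _)
    rw [hif]; infer_instance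
  exact QuasiCompact.of_comp i (CohB1.ProjSpaceOver.toBase n S)

/-- **S1497**. -/
theorem immersion_iff_finiteType_ample (hS : ∃ N : S.Modules, CohB1.IsAmple N) (f : X ⟶ S) :
    (∃ (n : ℕ) (i : X ⟶ CohB1.ProjSpaceOver n S), IsImmersion i ∧ QuasiCompact i ∧
      i ≫ pullback.snd (CohB1.ProjSpace.toSpec n (ULift.{u} ℤ))
        (specULiftZIsTerminal.from S) = f) ↔
      (LocallyOfFiniteType f ∧ QuasiCompact f ∧ ∃ L : X.Modules, CohB1.IsAmple L) := by
  constructor
  · rintro ⟨n, i, hi, hqc, rfl⟩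
    haveI := Groth.Agent.H5.AG.isProper_toBase n S
    haveI : IsImmersion i := hi
    haveI : QuasiCompact i := hqc
    have h1 : LocallyOfFiniteType (i ≫ CohB1.ProjSpaceOver.toBase n S) := inferInstance
    have h2 : QuasiCompact (i ≫ CohB1.ProjSpaceOver.toBase n S) := inferInstance
    exact ⟨h1, h2, exists_isAmple_of_immersion hS i⟩
  · rintro ⟨hlft, hqc, L, hL⟩
    haveI := hlft
    haveI := hqc
    exact exists_immersion_of_isAmple f L hL

/-- **S1496**. -/
theorem closedImmersion_iff_proper_ample (hS : ∃ N : S.Modules, CohB1.IsAmple N) (f : X ⟶ S) :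
    ((∃ (n : ℕ) (i : X ⟶ CohB1.ProjSpaceOver n S), IsClosedImmersion i ∧
      i ≫ pullback.snd (CohB1.ProjSpace.toSpec n (ULift.{u} ℤ))
        (specULiftZIsTerminal.from S) = f) ↔
      (IsProper f ∧ ∃ L : X.Modules, CohB1.IsAmple L)) ∧
    ((IsProper f ∧ ∃ L : X.Modules, CohB1.IsAmple L) ↔
      (IsProper f ∧ ∃ L : X.Modules, RelAmple.IsRelAmple f L)) := by
  refine ⟨⟨?_, ?_⟩, ⟨?_, ?_⟩⟩
  · rintro ⟨n, i, hi, rfl⟩
    haveI := Groth.Agent.H5.AG.isProper_toBase n S
    haveI : IsClosedImmersion i := hi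
    have h1 : IsProper (i ≫ CohB1.ProjSpaceOver.toBase n S) := inferInstance
    haveI : QuasiCompact (i ≫ CohB1.ProjSpaceOver.toBase n S) := inferInstance
    exact ⟨h1, exists_isAmple_of_immersion hS i⟩
  · rintro ⟨hp, L, hL⟩
    haveI := hp
    obtain ⟨n, i, hi, -, hif⟩ := exists_immersion_of_isAmple f L hL
    haveI := Groth.Agent.H5.AG.isProper_toBase n S
    haveI : IsProper (i ≫ CohB1.ProjSpaceOver.toBase n S) := hif ▸ hp
    haveI : IsProper i := IsProper.of_comp i (CohB1.ProjSpaceOver.toBase n S)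
    haveI : IsImmersion i := hi
    exact ⟨n, i, IsClosedImmersion.of_isPreimmersion i i.isClosedMap.isClosed_range, hif⟩
  · rintro ⟨hp, L, hL⟩
    haveI := hp
    exact ⟨hp, L, isRelAmple_of_isAmple f L hL⟩
  · rintro ⟨hp, L, hL⟩
    obtain ⟨N, hN⟩ := hS
    obtain ⟨n₀, h⟩ := exists_isAmple_twist_pullback f N hN L hL
    exact ⟨hp, _, h n₀ le_rfl⟩

/-- **S4414**. -/
theorem isQuasiProjective_iff (hS : ∃ M : S.Modules, CohB1.IsAmple M) (f : X ⟶ S) :
    RelProj.IsQuasiProjective f ↔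
      (LocallyOfFiniteType f ∧ QuasiCompact f ∧
        ∃ (r : ℕ) (i : X ⟶ CohB1.ProjSpaceOver r S), IsImmersion i ∧
          i ≫ CohB1.ProjSpaceOver.toBase r S = f) := by
  constructor
  · rintro ⟨hlft, hqc, L, hL⟩
    haveI := hlft
    haveI := hqc
    obtain ⟨N, hN⟩ := hS
    obtain ⟨n₀, h⟩ := exists_isAmple_twist_pullback f N hN L hL
    obtain ⟨n, i, hi, -, hif⟩ := exists_immersion_of_isAmple f _ (h n₀ le_rfl)
    exact ⟨hlft, hqc, n, i, hi, hif⟩
  · rintro ⟨hlft, hqc, r, i, hi, rfl⟩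
    haveI := hqc
    haveI : IsImmersion i := hi
    exact ⟨hlft, hqc, _, isRelAmple_pullback_twistOver i⟩

end Groth.Agent.H5.VAmple
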