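import Mathlib
import Groth.Agent.Lib.Helper5.VAmple.L
import Groth.Agent.Lib.Helper5.AG.HProj

/-! # Very ample modules, part M: locally quasi-projective = locally H-quasi-projective. -/

set_option autoImplicit false
universe u
open CategoryTheory CategoryTheory.Limits AlgebraicGeometry Opposite TopologicalSpace

namespace Groth.Agent.H5.VAmple

open Groth.Agent.LD Groth.Agent.LD.QC Groth.Agent.H5.AG

/-- `projMap` along an isomorphism is an isomorphism. -/
lemma isIso_projMap (n : ℕ) {T S : Scheme.{u}} (φ : T ⟶ S) [IsIso φ] : IsIso (projMap n φ) :=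
  (projMap_isPullback n φ).isIso_fst_of_isIso

/-- H-quasi-projectivity is invariant under isomorphisms. -/
theorem isHQuasiProjective_of_iso {X S X' S' : Scheme.{u}} {f : X ⟶ S} {f' : X' ⟶ S'}
    (l : X ⟶ X') (r : S ⟶ S') [IsIso l] [IsIso r] (hw : l ≫ f' = f ≫ r)
    (h : RelProj.IsHQuasiProjective f) : RelProj.IsHQuasiProjective f' := by
  obtain ⟨n, i, hi, hqc, hif⟩ := h
  haveI : IsImmersion i := hi
  haveI : QuasiCompact i := hqc
  haveI := isIso_projMap n r
  have hsq := (projMap_isPullback n r).w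
  refine ⟨n, inv l ≫ i ≫ projMap n r, inferInstance, inferInstance, ?_⟩
  rw [Category.assoc, Category.assoc, hsq, ← Category.assoc i, hif, ← hw, IsIso.inv_hom_id_assoc]

/-- H-quasi-projectivity is invariant under isomorphisms of arrows. -/
theorem isHQuasiProjective_of_arrowIso {X S X' S' : Scheme.{u}} {f : X ⟶ S} {f' : X' ⟶ S'}
    (e : Arrow.mk f ≅ Arrow.mk f') (h : RelProj.IsHQuasiProjective f) :
    RelProj.IsHQuasiProjective f' :=
  haveI : IsIso e.hom.right := inferInstance
  haveI : IsIso e.hom.left := inferInstance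
  isHQuasiProjective_of_iso (f := f) (f' := f') e.hom.left e.hom.right (Arrow.w e.hom) h

/-- H-projectivity is invariant under isomorphisms. -/
theorem isHProjective_of_iso {X S X' S' : Scheme.{u}} {f : X ⟶ S} {f' : X' ⟶ S'}
    (l : X ⟶ X') (r : S ⟶ S') [IsIso l] [IsIso r] (hw : l ≫ f' = f ≫ r)
    (h : RelProj.IsHProjective f) : RelProj.IsHProjective f' := by
  obtain ⟨n, i, hi, hif⟩ := h
  haveI : IsClosedImmersion i := hi
  haveI := isIso_projMap n r
  have hsq := (projMap_isPullback n r).w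
  refine ⟨n, inv l ≫ i ≫ projMap n r, inferInstance, ?_⟩
  rw [Category.assoc, Category.assoc, hsq, ← Category.assoc i, hif, ← hw, IsIso.inv_hom_id_assoc]

/-- H-projectivity is invariant under isomorphisms of arrows. -/
theorem isHProjective_of_arrowIso {X S X' S' : Scheme.{u}} {f : X ⟶ S} {f' : X' ⟶ S'}
    (e : Arrow.mk f ≅ Arrow.mk f') (h : RelProj.IsHProjective f) :
    RelProj.IsHProjective f' :=
  haveI : IsIso e.hom.right := inferInstance
  haveI : IsIso e.hom.left := inferInstance
  isHProjective_of_iso (f := f) (f' := f') e.hom.left e.hom.right (Arrow.w e.hom) h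

/-- an H-quasi-projective morphism is quasi-projective. -/
theorem isQuasiProjective_of_isHQuasiProjective {X S : Scheme.{u}} (f : X ⟶ S)
    (h : RelProj.IsHQuasiProjective f) : RelProj.IsQuasiProjective f := by
  obtain ⟨n, i, hi, hqc, rfl⟩ := h
  haveI := Groth.Agent.H5.AG.isProper_toBase n S
  haveI : IsImmersion i := hi
  haveI : QuasiCompact i := hqc
  have h1 : LocallyOfFiniteType (i ≫ CohB1.ProjSpaceOver.toBase n S) := inferInstance
  have h2 : QuasiCompact (i ≫ CohB1.ProjSpaceOver.toBase n S) := inferInstance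
  exact ⟨h1, h2, _, isRelAmple_pullback_twistOver i⟩

/-- **S9712**: locally quasi-projective = locally H-quasi-projective. -/
theorem locally_isQuasiProjective_iff {X S : Scheme.{u}} (f : X ⟶ S) :
    (∀ s : S, ∃ U : S.Opens, s ∈ U ∧ RelProj.IsQuasiProjective (f ∣_ U)) ↔
      (∀ s : S, ∃ U : S.Opens, s ∈ U ∧ RelProj.IsHQuasiProjective (f ∣_ U)) := by
  constructor
  · intro h s
    obtain ⟨U, hsU, hlft, hqc, L, hL⟩ := h s
    haveI := hlft
    haveI := hqc
    obtain ⟨V', hV', hsV', -⟩ := exists_isAffineOpen_mem_and_subset (X := U.toScheme)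
      (x := ⟨s, hsU⟩) (U := ⊤) trivial
    have hA := hL.2 ⟨V', hV'⟩
    have h1 : RelProj.IsHQuasiProjective ((f ∣_ U) ∣_ V') :=
      exists_immersion_of_isAmple ((f ∣_ U) ∣_ V') _ hA
    have h2 := isHQuasiProjective_of_arrowIso (morphismRestrictRestrict f U V') h1
    exact ⟨U.ι ''ᵁ V', ⟨⟨s, hsU⟩, hsV', rfl⟩, h2⟩
  · intro h s
    obtain ⟨U, hsU, hU⟩ := h s
    exact ⟨U, hsU, isQuasiProjective_of_isHQuasiProjective _ hU⟩

end Groth.Agent.H5.VAmple
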