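import Mathlib
import Groth.Agent.Lib.Helper5.VAmple.M
import Groth.Agent.Lib.Lead.QC.LocalBase2

/-! # Very ample modules, part N: relative ampleness = locally some power is very ample. -/

set_option autoImplicit false
universe u
open CategoryTheory CategoryTheory.Limits AlgebraicGeometry Opposite TopologicalSpace

namespace Groth.Agent.H5.VAmple

open Groth.Agent.LD Groth.Agent.LD.QC

variable {X S : Scheme.{u}}

/-- relative ampleness is invariant under isomorphism. -/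
theorem isRelAmple_of_iso (f : X ⟶ S) {L L' : X.Modules} (e : L ≅ L')
    (h : RelAmple.IsRelAmple f L) : RelAmple.IsRelAmple f L' :=
  ⟨h.1, fun V => isAmple_of_iso ((Scheme.Modules.restrictFunctor (f ⁻¹ᵁ V.1).ι).mapIso e) (h.2 V)⟩

/-- a very ample module is relatively ample. -/
theorem isRelAmple_of_isRelVeryAmplePn (f : X ⟶ S) [QuasiCompact f] (L : X.Modules)
    (h : RelAmple.IsRelVeryAmplePn f L) : RelAmple.IsRelAmple f L := by
  obtain ⟨n, i, hi, hif, ⟨τ⟩⟩ := h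
  haveI : IsImmersion i := hi
  haveI : QuasiCompact (i ≫ CohB1.ProjSpaceOver.toBase n S) := by
    change QuasiCompact (i ≫ pullback.snd _ _)
    rw [hif]; infer_instance
  have h1 := isRelAmple_pullback_twistOver i
  have h2 : i ≫ CohB1.ProjSpaceOver.toBase n S = f := hif
  rw [h2] at h1
  exact isRelAmple_of_iso f τ.symm h1

/-- if a positive power of `L` is relatively ample over an open `V` of the base, then `L` is ample
over the preimage of every affine open contained in `V`. -/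
theorem isAmple_restrict_of_pow_isRelAmple (f : X ⟶ S) [QuasiCompact f] (L : X.Modules)
    (hLinv : PicF.IsInvertible L) (V : S.Opens) (d : ℕ) (hd : 0 < d)
    (h : RelAmple.IsRelAmple (f ∣_ V) ((CohB1.tensorPow L d).restrict (f ⁻¹ᵁ V).ι))
    (W : S.Opens) (hW : IsAffineOpen W) (hWV : W ≤ V) :
    CohB1.IsAmple (L.restrict (f ⁻¹ᵁ W).ι) := by
  haveI : CompactSpace ((f ⁻¹ᵁ W : X.Opens) : Scheme.{u}) := compactSpace_preimage f hW.isCompact
  have hW' : IsAffineOpen (V.ι ⁻¹ᵁ W) := by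
    refine hW.preimage_of_isOpenImmersion V.ι ?_
    rw [Scheme.Opens.opensRange_ι]
    exact hWV
  have h1 := h.2 ⟨V.ι ⁻¹ᵁ W, hW'⟩
  have himg : V.ι ''ᵁ (V.ι ⁻¹ᵁ W) = W := by
    rw [Scheme.Hom.image_preimage_eq_opensRange_inf, Scheme.Opens.opensRange_ι]
    exact inf_eq_right.mpr hWV
  rw [isAmple_restrict_restrict_iff' (f ⁻¹ᵁ V).ι ((f ∣_ V) ⁻¹ᵁ (V.ι ⁻¹ᵁ W)).ι
    (CohB1.tensorPow L d) (f ⁻¹ᵁ W)
    (by rw [Scheme.Opens.opensRange_ι, image_morphismRestrict_preimage, himg])] at h1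
  have h2 : CohB1.IsAmple (CohB1.tensorPow (L.restrict (f ⁻¹ᵁ W).ι) d) :=
    isAmple_of_iso (restrictTensorPowIso (f ⁻¹ᵁ W).ι L d).symm h1
  haveI : ((f ⁻¹ᵁ W : X.Opens) : Scheme.{u}).IsSeparated :=
    isSeparated_of_affine_genLocus _ h2.1 h2.2.2
  exact (Groth.Agent.S2327.result _ _ (isInvertible_restrict (f ⁻¹ᵁ W).ι hLinv) d hd).mpr h2

/-- **S9695**: relative ampleness = locally on the base, a power is very ample. -/
theorem isRelAmple_iff_locally_power_veryAmple (f : X ⟶ S) [LocallyOfFiniteType f]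
    [QuasiCompact f] (L : X.Modules) (hLinv : PicF.IsInvertible L) :
    RelAmple.IsRelAmple f L ↔
      ∃ (ι : Type u) (V : ι → S.Opens), (⨆ j, V j) = ⊤ ∧
        ∀ j, ∃ d : ℕ, 0 < d ∧
          RelAmple.IsRelVeryAmplePn (f ∣_ V j)
            ((CohB1.tensorPow L d).restrict (f ⁻¹ᵁ V j).ι) := by
  constructor
  · intro hL
    refine ⟨S.affineOpens, fun j => j.1, ?_, fun j => ?_⟩
    · exact iSup_affineOpens_eq_top S
    · obtain ⟨d₀, hd₀, h⟩ := eventually_isRelVeryAmplePn_tensorPow (f ∣_ j.1) _ (hL.2 j)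
      exact ⟨d₀, hd₀, isRelVeryAmplePn_of_iso _ (restrictTensorPowIso (f ⁻¹ᵁ j.1).ι L d₀)
        (h d₀ le_rfl)⟩
  · rintro ⟨ι, V, hV, h⟩
    refine ⟨inferInstance, fun W => ?_⟩
    apply isAmple_preimage_of_basicOpen_cover f L W.1 W.2
    intro v hv
    obtain ⟨j, hj⟩ : ∃ j, v ∈ V j := by
      have : v ∈ (⨆ j, V j : S.Opens) := by rw [hV]; trivial
      exact Opens.mem_iSup.mp this
    obtain ⟨g, hg1, hg2⟩ := W.2.exists_basicOpen_le ⟨v, hj⟩ hv
    refine ⟨g, hg2, ?_⟩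
    obtain ⟨d, hd, hva⟩ := h j
    exact isAmple_restrict_of_pow_isRelAmple f L hLinv (V j) d hd
      (isRelAmple_of_isRelVeryAmplePn _ _ hva) _ (W.2.basicOpen g) hg1

end Groth.Agent.H5.VAmple
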