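import Mathlib
import Groth.Agent.Lib.Helper5.VAmple.H

/-! # Very ample modules, part Q: refined forms exposing the morphism to projective space. -/

set_option autoImplicit false
universe u
open CategoryTheory CategoryTheory.Limits AlgebraicGeometry HomogeneousLocalization Opposite
  TopologicalSpace

namespace Groth.Agent.H5.VAmple

open Groth.Agent.LD Groth.Agent.LD.QC Twist Groth.Agent.H2.PUP Groth.Agent.H5.Segre

variable {X S : Scheme.{u}}

/-- **immersion criterion** for a finite family of global sections, exposing the morphism. -/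
theorem exists_toPn_isImmersion_of_family (q : X ⟶ S) (L : X.Modules) (hL : PicF.IsInvertible L)
    {J : Type*} [Fintype J] [Nonempty J] (σ : J → ProjUP.Γm L)
    (h : ∀ x : X, ∃ (k : J) (V : S.Opens) (U : X.Opens) (hUV : U ≤ q ⁻¹ᵁ V),
      IsAffineOpen V ∧ IsAffineOpen U ∧ x ∈ U ∧
      QC.IsBasisOver L U (L.presheaf.map (homOfLE (le_top : U ≤ ⊤)).op (σ k)) ∧
      CohB1.genLocus L (QC.homOfSection L (σ k)) ⊓ q ⁻¹ᵁ V ≤ U ∧
      ∃ T : Set Γ(X, U),
        (∀ b ∈ T, ∃ l : J, L.presheaf.map (homOfLE (le_top : U ≤ ⊤)).op (σ l) =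
          b • L.presheaf.map (homOfLE (le_top : U ≤ ⊤)).op (σ k)) ∧
        Subring.closure (Set.range (q.appLE V U hUV).hom ∪ T) = ⊤) :
    ∃ (n : ℕ) (s : Fin (n + 1) → ProjUP.Γm L) (hs : ProjUP.GeneratedBy L s),
      IsImmersion (toPn q L hL s hs) ∧ ∀ j : J, ∃ k, s k = σ j := by
  classical
  obtain ⟨n, hn⟩ : ∃ n, Fintype.card J = n + 1 :=
    ⟨Fintype.card J - 1, (Nat.succ_pred_eq_of_pos Fintype.card_pos).symm⟩
  let e : J ≃ Fin (n + 1) := Fintype.equivFinOfCardEq hn
  let s : Fin (n + 1) → ProjUP.Γm L := fun i => σ (e.symm i)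
  have hse : ∀ k, s (e k) = σ k := fun k => by simp [s]
  have hs : ProjUP.GeneratedBy L s := by
    apply generatedBy_of_local_basis
    intro x
    obtain ⟨k, V, U, hUV, -, -, hxU, hb, -⟩ := h x
    exact ⟨e k, U, hxU, by rw [hse]; exact hb⟩
  refine ⟨n, s, hs, ?_, fun j => ⟨e j, hse j⟩⟩
  apply isImmersion_toPn q L hL s hs
  intro x
  obtain ⟨k, V, U, hUV, hV, hU, hxU, hb, hle, T, hT, hcl⟩ := h x
  have hUk : U ≤ Xs L s (e k) := by
    rw [Xs_eq, hse, QC.le_genLocus_iff_isBasisOver, QC.val_homOfSection]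
    exact hb
  refine ⟨e k, V, U, hUk, hUV, hV, hU, hxU, ?_, ?_⟩
  · rw [Xs_eq, hse]
    exact hle
  · rw [eq_top_iff, ← hcl]
    apply Subring.closure_mono
    apply Set.union_subset_union_right
    intro b hbT
    obtain ⟨l, hl⟩ := hT b hbT
    refine ⟨e l, ?_⟩
    apply cc_res_eq L s (e k) (e l) hUk b
    rw [hse, hse]
    exact hl

/-- **a power of an ample module is very ample**, with a prescribed power of a prescribed section
among the coordinates. -/
theorem exists_pow_toPn_isImmersion (q : X ⟶ S) [LocallyOfFiniteType q] (L : X.Modules)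
    (hL : CohB1.IsAmple L) (s₀ : unitMod X ⟶ L) :
    ∃ (m N : ℕ) (hMN : PicF.IsInvertible (CohB1.tensorPow (CohB1.tensorPow L m) N)) (n : ℕ)
      (s : Fin (n + 1) → ProjUP.Γm (CohB1.tensorPow (CohB1.tensorPow L m) N))
      (hs : ProjUP.GeneratedBy _ s) (k₀ : Fin (n + 1)),
      0 < m ∧ 0 < N ∧ IsImmersion (toPn q _ hMN s hs) ∧
        s k₀ = sectionOfHom (SecTwist.powHom (SecTwist.powHom s₀ m) N) := by
  classical
  have hinv := hL.1
  haveI := hL.2.1
  haveI : X.IsSeparated := isSeparated_of_affine_genLocus L hinv hL.2.2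
  haveI : QuasiSeparatedSpace X := inferInstance
  haveI : L.IsQuasicoherent := qc_of_isInvertible L hinv
  obtain ⟨m, hm, r, s, hP, hcov⟩ := exists_common_power' L hinv
    (fun U => IsAffineOpen U ∧ ∃ V : S.Opens, IsAffineOpen V ∧ U ≤ q ⁻¹ᵁ V) (by
      intro x
      obtain ⟨V, hV, hxV, -⟩ := exists_isAffineOpen_mem_and_subset (x := q x) (U := ⊤) trivial
      obtain ⟨n, s, hxs, hle, haff⟩ := exists_affine_genLocus_le L hL x (q ⁻¹ᵁ V) hxV
      exact ⟨n, s, hxs, haff, V, hV, hle⟩)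
  have hM : PicF.IsInvertible (CohB1.tensorPow L m) := isInvertible_tensorPow hinv m
  haveI : (CohB1.tensorPow L m).IsQuasicoherent := qc_of_isInvertible _ hM
  choose haff V hV hUV using hP
  choose G hG using fun k => exists_finset_closure_eq_top (q.appLE (V k) _ (hUV k)).hom
    (q.finiteType_appLE (hV k) (haff k) (hUV k))
  choose n₀ hn₀ using fun (k : Fin r) (b : Γ(X, CohB1.genLocus _ (s k))) =>
    exists_section_eq_smul_pow (CohB1.tensorPow L m) hM (s k) b
  obtain ⟨N, hN1, hN⟩ : ∃ N : ℕ, 0 < N ∧ ∀ k, ∀ b ∈ G k, n₀ k b ≤ N := by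
    refine ⟨1 + Finset.univ.sup (fun k => (G k).sup (n₀ k)), by omega, fun k b hb => ?_⟩
    have h1 : n₀ k b ≤ (G k).sup (n₀ k) := Finset.le_sup hb
    have h2 : (G k).sup (n₀ k) ≤ Finset.univ.sup (fun k => (G k).sup (n₀ k)) :=
      Finset.le_sup (f := fun k => (G k).sup (n₀ k)) (Finset.mem_univ k)
    omega
  choose t ht using fun (k : Fin r) (b : {b // b ∈ G k}) => hn₀ k b.1 N (hN k b.1 b.2)
  have hMN : PicF.IsInvertible (CohB1.tensorPow (CohB1.tensorPow L m) N) :=
    isInvertible_tensorPow hM N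
  let σ : Option (Fin r ⊕ Σ k : Fin r, {b // b ∈ G k}) →
      ProjUP.Γm (CohB1.tensorPow (CohB1.tensorPow L m) N) := fun j =>
    match j with
    | none => sectionOfHom (SecTwist.powHom (SecTwist.powHom s₀ m) N)
    | some (Sum.inl k) => sectionOfHom (SecTwist.powHom (s k) N)
    | some (Sum.inr ⟨k, b⟩) => t k b
  obtain ⟨n, s', hs', himm, hsσ⟩ := exists_toPn_isImmersion_of_family q _ hMN σ (by
    intro x
    obtain ⟨k, hxk⟩ := hcov x
    have hgl : CohB1.genLocus (CohB1.tensorPow (CohB1.tensorPow L m) N)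
        (SecTwist.powHom (s k) N) = CohB1.genLocus _ (s k) := by
      obtain ⟨N', rfl⟩ : ∃ N', N = N' + 1 := ⟨N - 1, by omega⟩
      exact genLocus_powHom_succ hM (s k) N'
    have hres : (CohB1.tensorPow (CohB1.tensorPow L m) N).presheaf.map
        (homOfLE (le_top : CohB1.genLocus _ (s k) ≤ ⊤)).op (σ (some (Sum.inl k))) =
        SecTwist.val (SecTwist.powHom (s k) N) (CohB1.genLocus _ (s k)) :=
      SecTwist.map_val (SecTwist.powHom (s k) N) (homOfLE le_top)
    refine ⟨some (Sum.inl k), V k, CohB1.genLocus _ (s k), hUV k, hV k, haff k, hxk, ?_⟩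
    refine ⟨?_, ?_, ((G k : Finset _) : Set Γ(X, CohB1.genLocus _ (s k))), ?_, ?_⟩
    rotate_left 3
    · exact hG k
    · rw [hres]
      exact (le_genLocus_iff_isBasisOver _ _ _).mp hgl.ge
    · change CohB1.genLocus _ (homOfSection _ (sectionOfHom (SecTwist.powHom (s k) N))) ⊓ _ ≤ _
      rw [homOfSection_sectionOfHom, hgl]
      exact inf_le_left
    · intro b hb
      refine ⟨some (Sum.inr ⟨k, ⟨b, hb⟩⟩), ?_⟩
      rw [hres]
      exact ht k ⟨b, hb⟩)
  obtain ⟨k₀, hk₀⟩ := hsσ none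
  exact ⟨m, N, hMN, n, s', hs', k₀, hm, hN1, himm, hk₀⟩

end Groth.Agent.H5.VAmple
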