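import Mathlib
import Groth.Agent.Lib.Helper5.VAmple.H
import Groth.Agent.Lib.Lead.QC.AffineAmple
import Groth.Agent.Lib.Lead.QC.LocalBase

/-! # Very ample modules, part O: on an affine scheme of finite type every invertible module is
very ample. -/

set_option autoImplicit false
universe u
open CategoryTheory CategoryTheory.Limits AlgebraicGeometry Opposite TopologicalSpace

namespace Groth.Agent.H5.VAmple

open Groth.Agent.LD Groth.Agent.LD.QC

/-- generators of a localization away from an element. -/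
lemma closure_localization_eq_top {R' A B : Type*} [CommRing R'] [CommRing A] [CommRing B]
    (φ : R' →+* A) (ψ : A →+* B) (u : B) (hloc : ∀ b : B, ∃ (a : A) (n : ℕ), b = ψ a * u ^ n)
    (G : Set A) (hG : Subring.closure (Set.range φ ∪ G) = ⊤) :
    Subring.closure (Set.range (ψ.comp φ) ∪ (insert u (ψ '' G))) = ⊤ := by
  set C := Subring.closure (Set.range (ψ.comp φ) ∪ (insert u (ψ '' G))) with hC
  have h1 : (⊤ : Subring A) ≤ C.comap ψ := by
    rw [← hG, Subring.closure_le]
    rintro a (⟨r, rfl⟩ | ha)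
    · exact Subring.subset_closure (Or.inl ⟨r, rfl⟩)
    · exact Subring.subset_closure (Or.inr (Or.inr ⟨a, ha, rfl⟩))
  have hu : u ∈ C := Subring.subset_closure (Or.inr (Or.inl rfl))
  rw [eq_top_iff]
  intro b _
  obtain ⟨a, n, rfl⟩ := hloc b
  exact C.mul_mem (h1 (Subring.mem_top a)) (C.pow_mem hu n)

variable {X S : Scheme.{u}}

/-- on an affine scheme, an invertible module has, near any point, a global section which is a
basis exactly over a basic open. -/
lemma exists_basicOpen_basis [IsAffine X] (L : X.Modules) (hL : PicF.IsInvertible L) (x : X) :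
    ∃ (g : Γ(X, ⊤)) (t : Γ(L, ⊤)), x ∈ X.basicOpen g ∧
      IsBasisOver L (X.basicOpen g) (L.presheaf.map (homOfLE (le_top : X.basicOpen g ≤ ⊤)).op t) := by
  haveI : L.IsQuasicoherent := qc_of_isInvertible L hL
  obtain ⟨U, e, hU, hxU, -, he⟩ := exists_affine_basis L hL x ⊤ trivial
  obtain ⟨_, ⟨_, ⟨g, rfl⟩, rfl⟩, hxg, hgU⟩ := (isBasis_basicOpen X).exists_subset_of_mem_open hxU U.2
  have hgU' : X.basicOpen g ≤ U := hgU
  obtain ⟨n, t, ht⟩ := compact_qs_surj L (U := ⊤) isCompact_univ isQuasiSeparated_univ g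
    (L.presheaf.map (homOfLE hgU').op e)
  have hu : IsUnit (X.presheaf.map (homOfLE (X.basicOpen_le g)).op g) :=
    RingedSpace.isUnit_res_basicOpen _ g
  refine ⟨g, t, hxg, ?_⟩
  have ht' : L.presheaf.map (homOfLE (le_top : X.basicOpen g ≤ ⊤)).op t =
      (X.presheaf.map (homOfLE (X.basicOpen_le g)).op g) ^ n •
        L.presheaf.map (homOfLE hgU').op e := ht
  rw [ht']
  exact ((he.mono hgU').smul_iff _).mpr (hu.pow n)

end Groth.Agent.H5.VAmple

namespace Groth.Agent.H5.VAmple

open Groth.Agent.LD Groth.Agent.LD.QC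

set_option maxHeartbeats 1600000 in
/-- **on an affine scheme of finite type over a ring, every invertible module is very ample.** -/
theorem isRelVeryAmplePn_of_isAffine (R : Type u) [CommRing R]
    {X : Scheme.{u}} [IsAffine X] (q : X ⟶ Spec (CommRingCat.of R)) [LocallyOfFiniteType q]
    (L : X.Modules) (hL : PicF.IsInvertible L) :
    RelAmple.IsRelVeryAmplePn q L := by
  classical
  choose g t hxg hb using exists_basicOpen_basis L hL
  obtain ⟨t0, ht0⟩ := isCompact_univ.elim_finite_subcover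
    (fun x : X => (X.basicOpen (g x) : Set X)) (fun x => (X.basicOpen (g x)).2)
    (fun x _ => Set.mem_iUnion.mpr ⟨x, hxg x⟩)
  have hft : (q.appLE ⊤ ⊤ le_top).hom.FiniteType :=
    q.finiteType_appLE (isAffineOpen_top _) (isAffineOpen_top X) le_top
  obtain ⟨G, hG⟩ := exists_finset_closure_eq_top _ hft
  let σ : Option (t0 ⊕ (t0 × Option {b // b ∈ G})) → ProjUP.Γm L := fun j =>
    match j with
    | none => 0
    | some (Sum.inl k) => g k.1 • t k.1
    | some (Sum.inr (k, none)) => t k.1
    | some (Sum.inr (k, some b)) => (b.1 * g k.1) • t k.1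
  apply isRelVeryAmplePn_of_family' q L hL σ
  intro x
  obtain ⟨k, hk, hxk⟩ := Set.mem_iUnion₂.mp (ht0 (Set.mem_univ x))
  have hu : IsUnit (X.presheaf.map (homOfLE (X.basicOpen_le (g k))).op (g k)) :=
    RingedSpace.isUnit_res_basicOpen _ (g k)
  obtain ⟨v, hv⟩ := hu
  have hres : L.presheaf.map (homOfLE (le_top : X.basicOpen (g k) ≤ ⊤)).op
      (σ (some (Sum.inl ⟨k, hk⟩))) = (v : Γ(X, X.basicOpen (g k))) •
        L.presheaf.map (homOfLE (le_top : X.basicOpen (g k) ≤ ⊤)).op (t k) := by
    change L.presheaf.map _ (g k • t k) = _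
    rw [smul_res, hv]
  refine ⟨some (Sum.inl ⟨k, hk⟩), ⊤, X.basicOpen (g k), le_top, isAffineOpen_top _,
    (isAffineOpen_top X).basicOpen (g k), hxk, ?_, ?_, ?_⟩
  · rw [hres]
    exact ((hb k).smul_iff _).mpr v.isUnit
  · exact inf_le_left.trans (genLocus_smul_le L (g k) (t k))
  · refine ⟨insert ((↑v⁻¹ : Γ(X, X.basicOpen (g k))))
      ((X.presheaf.map (homOfLE (le_top : X.basicOpen (g k) ≤ ⊤)).op).hom '' (G : Set Γ(X, ⊤))),
      ?_, ?_⟩
    · rintro b (rfl | ⟨a, ha, rfl⟩)
      · refine ⟨some (Sum.inr (⟨k, hk⟩, none)), ?_⟩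
        rw [hres, smul_smul, Units.inv_mul, one_smul]
      · refine ⟨some (Sum.inr (⟨k, hk⟩, some ⟨a, ha⟩)), ?_⟩
        rw [hres]
        change L.presheaf.map _ ((a * g k) • t k) = _
        rw [smul_res, map_mul, hv, smul_smul]
    · have h1 : (q.appLE ⊤ (X.basicOpen (g k)) le_top).hom =
          (X.presheaf.map (homOfLE (le_top : X.basicOpen (g k) ≤ ⊤)).op).hom.comp
            (q.appLE ⊤ ⊤ le_top).hom := by
        rw [← CommRingCat.hom_comp, Scheme.Hom.appLE_map]
      rw [h1]
      apply closure_localization_eq_top _ _ _ _ _ hG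
      intro b
      obtain ⟨⟨a, ⟨_, n, rfl⟩⟩, hab⟩ := IsLocalization.surj (Submonoid.powers (g k)) b
      refine ⟨a, n, ?_⟩
      have hab' : b * (v : Γ(X, X.basicOpen (g k))) ^ n =
          (X.presheaf.map (homOfLE (le_top : X.basicOpen (g k) ≤ ⊤)).op).hom a := by
        rw [hv, ← map_pow]
        exact hab
      rw [← hab', mul_assoc, ← mul_pow, Units.mul_inv, one_pow, mul_one]

end Groth.Agent.H5.VAmple
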