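import Mathlib
import Groth.Agent.Lib.Helper5.VAmple.L
import Groth.Agent.Lib.Lead.QC.AffineAmple
import Groth.Agent.Lib.Helper1.ProjIdeal
import Groth.Agent.Lib.Helper1.ProjTw

/-! # Very ample modules, part P: a proper scheme over an affine base with a relatively ample
module is `Proj` of a graded quotient of a polynomial algebra. -/

set_option autoImplicit false
universe u
open CategoryTheory CategoryTheory.Limits AlgebraicGeometry Opposite TopologicalSpace

namespace Groth.Agent.H5.VAmple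

open Groth.Agent.LD Groth.Agent.LD.QC

/-- `P^n_{Spec A} ≅ Proj A[X₀..X_n]` over `Spec A`. -/
theorem exists_iso_projSpaceOver_spec (n : ℕ) (A : Type u) [CommRing A] :
    ∃ e : CohB1.ProjSpaceOver n (Spec (CommRingCat.of A)) ≅ Proj (CohB1.polyGrading n A),
      e.hom ≫ Proj.toSpecZero (CohB1.polyGrading n A) ≫
        Spec.map (CommRingCat.ofHom (algebraMap A (CohB1.polyGrading n A 0))) =
      CohB1.ProjSpaceOver.toBase n _ := by
  let φ : ULift.{u} ℤ →+* A := (Int.castRingHom A).comp (ULift.ringEquiv : ULift.{u} ℤ ≃+* ℤ).toRingHom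
  have hφ : Spec.map (CommRingCat.ofHom φ) = specULiftZIsTerminal.from (Spec (CommRingCat.of A)) :=
    specULiftZIsTerminal.hom_ext _ _
  have hpb := Groth.Agent.H1.ProjTw.isPullback_projBC n φ
  rw [hφ] at hpb
  exact ⟨hpb.isoPullback.symm, hpb.isoPullback_inv_snd⟩

end Groth.Agent.H5.VAmple

namespace Groth.Agent.H5.VAmple

open Groth.Agent.LD Groth.Agent.LD.QC HomogeneousLocalization Groth.Agent.H1.ProjBC

section Comm
variable {R₀ A B : Type u} [CommRing R₀] [CommRing A] [CommRing B] [Algebra R₀ A] [Algebra R₀ B]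
  {𝒜 : ℕ → Submodule R₀ A} [GradedAlgebra 𝒜] {ℬ : ℕ → Submodule R₀ B} [GradedAlgebra ℬ]
  (φ : 𝒜 →+*ᵍ ℬ) (hφR : ∀ r : R₀, φ (algebraMap R₀ A r) = algebraMap R₀ B r)
  (hφ : HomogeneousIdeal.irrelevant ℬ ≤ (HomogeneousIdeal.irrelevant 𝒜).map φ)

include hφR in
lemma awayMap_rho (s : A) (r : R₀) : Away.map φ s (rho 𝒜 s r) = rho ℬ (φ s) r := by
  apply val_injective
  rw [val_rho]
  change (HomogeneousLocalization.map φ _
    (HomogeneousLocalization.mk ⟨0, algebraMap R₀ (𝒜 0) r, 1, one_mem _⟩)).val = _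
  rw [HomogeneousLocalization.map_mk, HomogeneousLocalization.val_mk]
  rw [Localization.mk_eq_mk_iff, Localization.r_iff_exists]
  refine ⟨1, ?_⟩
  simp only [OneMemClass.coe_one, one_mul]
  rw [show ((1 : 𝒜 0) : A) = 1 from rfl, map_one, one_mul]
  change φ (algebraMap R₀ A r) = _
  rw [hφR]

include hφR in
lemma projMap_toSpec_aux {d : ℕ} (hd : 0 < d) (s : A) (hs : s ∈ 𝒜 d) :
    Proj.awayι ℬ (φ s) (φ.2 hs) hd ≫ Proj.map φ hφ ≫ Proj.toSpecZero 𝒜 ≫
      Spec.map (CommRingCat.ofHom (algebraMap R₀ (𝒜 0))) =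
    Proj.awayι ℬ (φ s) (φ.2 hs) hd ≫ Proj.toSpecZero ℬ ≫
      Spec.map (CommRingCat.ofHom (algebraMap R₀ (ℬ 0))) := by
  rw [Proj.awayι_comp_map_assoc φ hφ hd s hs, awayι_toSpec, awayι_toSpec, ← Spec.map_comp]
  congr 1
  ext r
  exact congrArg _ (awayMap_rho φ hφR s r)

include hφR in
/-- `Proj.map` of a graded algebra homomorphism is compatible with the structure morphisms. -/
theorem projMap_toSpec :
    Proj.map φ hφ ≫ Proj.toSpecZero 𝒜 ≫ Spec.map (CommRingCat.ofHom (algebraMap R₀ (𝒜 0))) =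
      Proj.toSpecZero ℬ ≫ Spec.map (CommRingCat.ofHom (algebraMap R₀ (ℬ 0))) := by
  refine (Proj.mapAffineOpenCover φ hφ).openCover.hom_ext _ _ fun s => ?_
  exact projMap_toSpec_aux φ hφR hφ s.1.2 s.2.1 s.2.2

end Comm

end Groth.Agent.H5.VAmple

namespace Groth.Agent.H5.VAmple

open Groth.Agent.LD Groth.Agent.LD.QC Groth.Agent.H1.ProjIdeal

set_option maxHeartbeats 1600000 in
/-- **S3585**: a proper scheme over `Spec A` with a relatively ample module is `Proj` of a graded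
`A`-algebra generated by finitely many elements of degree one. -/
theorem exists_iso_proj_of_proper_relAmple {A : Type u} [CommRing A] {X : Scheme.{u}}
    (f : X ⟶ Spec (CommRingCat.of A)) [IsProper f]
    (L : X.Modules) (hamp : RelAmple.IsRelAmple f L) :
    ∃ (S : Type u) (_ : CommRing S) (_ : Algebra A S) (𝒮 : ℕ → Submodule A S)
      (_ : GradedAlgebra 𝒮) (s : Finset S),
      Function.Surjective (algebraMap A (𝒮 0)) ∧ (∀ g ∈ s, g ∈ 𝒮 1) ∧
      (HomogeneousIdeal.irrelevant 𝒮).toIdeal = Ideal.span (s : Set S) ∧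
      ∃ e : X ≅ Proj 𝒮, e.hom ≫ Proj.toSpecZero 𝒮 ≫
        Spec.map (CommRingCat.ofHom (algebraMap A (𝒮 0))) = f := by
  classical
  have hS : ∃ N : (Spec (CommRingCat.of A)).Modules, CohB1.IsAmple N :=
    ⟨unitMod _, isAmple_of_isAffine _ (isInvertible_unit _)⟩
  obtain ⟨h1, h2⟩ := closedImmersion_iff_proper_ample hS f
  obtain ⟨n, i, hi, hif⟩ := h1.mpr (h2.mpr ⟨inferInstance, L, hamp⟩)
  obtain ⟨e₁, he₁⟩ := exists_iso_projSpaceOver_spec n A
  haveI : IsClosedImmersion i := hi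
  let j : X ⟶ Proj (CohB1.polyGrading n A) := i ≫ e₁.hom
  haveI : IsClosedImmersion j := inferInstanceAs (IsClosedImmersion (i ≫ e₁.hom))
  have hj : j ≫ Proj.toSpecZero (CohB1.polyGrading n A) ≫
        Spec.map (CommRingCat.ofHom (algebraMap A (CohB1.polyGrading n A 0))) = f := by
    rw [Category.assoc, he₁]; exact hif
  let s₀ : Finset (MvPolynomial (Fin (n + 1)) A) := Finset.univ.image MvPolynomial.X
  have hs₀ : (s₀ : Set (MvPolynomial (Fin (n + 1)) A)) = Set.range MvPolynomial.X := by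
    simp [s₀]
  have hs1 : ∀ g ∈ s₀, g ∈ CohB1.polyGrading n A 1 := by
    intro g hg
    have : g ∈ (s₀ : Set (MvPolynomial (Fin (n + 1)) A)) := hg
    rw [hs₀] at this
    exact PN.X_range_mem n A g this
  have hs : (HomogeneousIdeal.irrelevant (CohB1.polyGrading n A)).toIdeal =
      Ideal.span (s₀ : Set (MvPolynomial (Fin (n + 1)) A)) := by
    rw [hs₀]; exact PN.irrelevant_eq_span n A
  obtain ⟨e, he⟩ := exists_iso_proj_quotient (CohB1.polyGrading n A) s₀ hs1 hs j
  refine ⟨_ ⧸ Isat (CohB1.polyGrading n A) j.ker s₀ hs1, inferInstance, inferInstance,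
    GrQuot.quot (CohB1.polyGrading n A) (Isat (CohB1.polyGrading n A) j.ker s₀ hs1),
    inferInstance, s₀.image (Ideal.Quotient.mk _), ?_, ?_, ?_, e, ?_⟩
  · rintro ⟨x, hx⟩
    obtain ⟨p, hp, rfl⟩ := (GrQuot.mem_quot_iff _ _ _ _).mp hx
    obtain ⟨a, ha⟩ := Groth.Agent.H5.AG.algebraMap_zero_surjective n A ⟨p, hp⟩
    refine ⟨a, Subtype.ext ?_⟩
    have ha' : algebraMap A (MvPolynomial (Fin (n + 1)) A) a = p := congrArg Subtype.val ha
    change algebraMap A (_ ⧸ _) a = Ideal.Quotient.mk _ p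
    rw [← ha']
    rfl
  · intro g hg
    obtain ⟨p, hp, rfl⟩ := Finset.mem_image.mp hg
    exact GrQuot.mk_mem_quot _ _ (hs1 p hp)
  · apply le_antisymm
    · have h := hφq (CohB1.polyGrading n A) j.ker s₀ hs1
      rw [← _root_.toIdeal_le_toIdeal_iff, HomogeneousIdeal.toIdeal_map, hs, Ideal.map_span] at h
      exact h.trans (le_of_eq (congrArg Ideal.span (Finset.coe_image).symm))
    · rw [Ideal.span_le]
      intro g hg
      obtain ⟨p, hp, rfl⟩ := Finset.mem_image.mp hg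
      exact HomogeneousIdeal.mem_irrelevant_of_mem _ Nat.one_pos
        (GrQuot.mk_mem_quot _ _ (hs1 p hp))
  · rw [← projMap_toSpec (φq (CohB1.polyGrading n A) j.ker s₀ hs1) (fun r => rfl)
      (hφq (CohB1.polyGrading n A) j.ker s₀ hs1), ← Category.assoc, he]
    exact hj

end Groth.Agent.H5.VAmple
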